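import Groth.Agent.L27.LimBC.StrictLocal
import Groth.Agent.L27.Acyclic0.BaseChange
import Groth.Agent.L27.Acyclic0.Points
import Groth.Agent.L27.EtSite.StrictLocal
import Groth.Agent.L28.AcycCrit.Basic
import Groth.Agent.L28.AcyComp.Iso
import Groth.Agent.L05.Henselization.Strict
import Groth.Prelude.Def_SGA4h

/-! # The closed fibre of the geometric fibres over a strictly local base under local acyclicity -/

universe u

open CategoryTheory CategoryTheory.Limits AlgebraicGeometry Opposite IsLocalRing
open scoped TensorProduct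

set_option maxSynthPendingDepth 3
set_option backward.isDefEq.respectTransparency.types false
set_option linter.style.haveILetI false
set_option linter.unusedSectionVars false

noncomputable section

namespace Groth.L27.LimBC

open Groth.L27.LimCoh

theorem bijective_Hpull_congr {W Z : Scheme.{u}} (a : W ⟶ Z) [PreservesFiniteLimits (EtCoh.pull a)]
    {F G : EtCoh.Ab Z} (φ : F ≅ G) (q : ℕ) (h : Function.Bijective (EtCore.Hpull a F q)) :
    Function.Bijective (EtCore.Hpull a G q) := by
  let b := (EtCoh.HF W q).map ((EtCoh.pull a).map φ.hom)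
  have h₁ : Function.Bijective ((EtCoh.HF Z q).map φ.hom) := ConcreteCategory.bijective_of_isIso _
  refine (Function.Bijective.of_comp_iff _ h₁).1 ?_
  exact Eq.subst (motive := Function.Bijective) (funext fun e => (Hpull_map a φ.hom q e).symm)
    ((ConcreteCategory.bijective_of_isIso b).comp h)

theorem bijective_Hpull_iso_comp {W' W Z : Scheme.{u}} (k : W' ⟶ W) [IsIso k] (a : W ⟶ Z) {b : W' ⟶ Z}
    (w : k ≫ a = b) [PreservesFiniteLimits (EtCoh.pull a)] [PreservesFiniteLimits (EtCoh.pull b)]
    (F : EtCoh.Ab Z) (q : ℕ) (h : Function.Bijective (EtCore.Hpull a F q)) :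
    Function.Bijective (EtCore.Hpull b F q) := by
  haveI := EtSite.preservesFiniteLimits_pull k
  haveI := isIso_gamma k a w F
  let g := (EtCoh.HF W' q).map (gamma k a w F)
  refine (Function.Bijective.of_comp_iff' (ConcreteCategory.bijective_of_isIso g) _).1 ?_
  rw [show g ∘ EtCore.Hpull b F q = EtCore.Hpull k _ q ∘ EtCore.Hpull a F q from
    funext fun e => (Hpull_comp k a w q F e).symm]
  exact (L28.AcyComp.bijective_Hpull k _ q).comp h

theorem bijective_stalk_closedPt (R : Type u) [CommRing R] [HenselianLocalRing R]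
    [IsSepClosed (ResidueField R)] {F G : EtCoh.Ab (Spec (CommRingCat.of R))} (φ : F ⟶ G)
    (h : Function.Bijective (φ.hom.app (op (EtCoh.top (Spec (CommRingCat.of R)))))) :
    Function.Bijective ((EtCoh.stalk (EtSite.closedPt R)).map φ) := by
  let P := Scheme.pointSmallEtale (EtSite.closedPt R)
  let T := EtCoh.top (Spec (CommRingCat.of R))
  have e : (EtCoh.stalk (EtSite.closedPt R)).map φ ∘ P.toPresheafFiber T (EtSite.topPt R) F.obj =
      P.toPresheafFiber T (EtSite.topPt R) G.obj ∘ φ.hom.app (op T) :=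
    funext fun s => P.toPresheafFiber_naturality_apply φ.hom T (EtSite.topPt R) s
  refine (Function.Bijective.of_comp_iff _ (EtSite.bijective_toPresheafFiber R F.obj)).1 ?_
  exact Eq.subst (motive := Function.Bijective) e.symm ((EtSite.bijective_toPresheafFiber R G.obj).comp h)

theorem bijective_stalk_comp {Z X : Scheme.{u}} (η : Z ⟶ X) {K : Type u} [Field K] [IsSepClosed K]
    (ξ : Spec (CommRingCat.of K) ⟶ Z) {ζ : Spec (CommRingCat.of K) ⟶ X} (w : ξ ≫ η = ζ)
    {F G : EtCoh.Ab X} (φ : F ⟶ G) :
    Function.Bijective ((EtCoh.stalk ξ).map ((EtCoh.pull η).map φ)) ↔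
      Function.Bijective ((EtCoh.stalk ζ).map φ) := by
  subst w
  have h := NatIso.isIso_map_iff (EtSite.stalkPullIso η ξ) φ
  rw [ConcreteCategory.isIso_iff_bijective, ConcreteCategory.isIso_iff_bijective] at h
  exact h

theorem specOf_closedPoint {X : Scheme.{u}} (x : X) (R : Type u) [CommRing R] [IsLocalRing R]
    [Algebra (X.presheaf.stalk x) R] [IsLocalHom (algebraMap (X.presheaf.stalk x) R)] :
    Hens2.specOf X x R (closedPoint R) = x :=
  (Scheme.Hom.comp_apply _ _ _).trans ((congrArg (X.fromSpecStalk x)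
    (IsLocalRing.comap_closedPoint (algebraMap (X.presheaf.stalk x) R))).trans Scheme.fromSpecStalk_closedPoint)

/-- The stalk of a morphism at a strictly henselian point. -/
theorem bijective_stalk_geomPt {X : Scheme.{u}} (x : X) (R : Type u) [CommRing R] [IsLocalRing R]
    [Algebra (X.presheaf.stalk x) R] [IsLocalHom (algebraMap (X.presheaf.stalk x) R)]
    [HenselianLocalRing R] [IsSepClosed (ResidueField R)] {F G : EtCoh.Ab X} (φ : F ⟶ G)
    (h : Function.Bijective (((EtCoh.pull (Hens2.specOf X x R)).map φ).hom.app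
      (op (EtCoh.top (Spec (CommRingCat.of R)))))) :
    Function.Bijective ((EtCoh.stalk (Hens2.geomPt X x R)).map φ) :=
  (bijective_stalk_comp (Hens2.specOf X x R) (EtSite.closedPt R) rfl φ).1 (bijective_stalk_closedPt R _ h)

theorem isStrictHenselization_closedPointTo {X : Scheme.{u}} (T : Type u) [CommRing T] [HenselianLocalRing T]
    [IsSepClosed (ResidueField T)] (η : Spec (CommRingCat.of T) ⟶ X) [WeaklyEtale η] :
    letI : Algebra (X.presheaf.stalk (η (closedPoint T))) T := (Scheme.stalkClosedPointTo η).hom.toAlgebra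
    ∃ _ : IsLocalHom (algebraMap (X.presheaf.stalk (η (closedPoint T))) T),
      Hensel.IsStrictHenselization (X.presheaf.stalk (η (closedPoint T))) T := by
  let x := η (closedPoint T)
  letI : Algebra (X.presheaf.stalk x) T := (Scheme.stalkClosedPointTo η).hom.toAlgebra
  haveI hl : IsLocalHom (algebraMap (X.presheaf.stalk x) T) :=
    Scheme.isLocalHom_stalkClosedPointTo' η
  obtain ⟨U, hU, hxU, -⟩ := exists_isAffineOpen_mem_and_subset (X := X) (U := ⊤) (x := x) trivial
  have hr : Set.range η ⊆ Set.range hU.fromSpec := by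
    rw [hU.range_fromSpec]
    rintro _ ⟨z, rfl⟩
    have := Scheme.preimage_eq_top_of_closedPoint_mem η hxU
    exact (this.ge (Set.mem_univ z) : z ∈ η ⁻¹ᵁ U)
  let l := IsOpenImmersion.lift hU.fromSpec η hr
  letI : Algebra Γ(X, U) T := (Spec.preimage l).hom.toAlgebra
  have hl' : Spec.map (CommRingCat.ofHom (algebraMap Γ(X, U) T)) = l := Spec.map_preimage l
  haveI : WeaklyEtale (Spec.map (CommRingCat.ofHom (algebraMap Γ(X, U) T)) ≫ hU.fromSpec) := by
    rw [hl', IsOpenImmersion.lift_fac]
    infer_instance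
  haveI : Algebra.WeaklyEtale Γ(X, U) T := by
    have h := (L20.weaklyEtale_specMap_iff (CommRingCat.ofHom (algebraMap Γ(X, U) T))).1
      (WeaklyEtale.of_comp _ hU.fromSpec)
    convert h using 1
  refine ⟨hl, Acyclic0.isStrictHenselization_of_chart hU.fromSpec x ?_⟩
  show Spec.map (Scheme.stalkClosedPointTo η) ≫ X.fromSpecStalk x = _
  rw [Scheme.Spec_stalkClosedPointTo_fromSpecStalk, hl', IsOpenImmersion.lift_fac]

/-- Local acyclicity at one point, through a weakly etale strictly henselian neighbourhood. -/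
theorem bijective_Hpull_of_isLARel {X S : Scheme.{u}} {f : X ⟶ S} {F : EtCoh.Ab X} (hla : SGA4h.IsLARel f F)
    (s : S) (RS : Type u) [CommRing RS] [IsLocalRing RS] [Algebra (S.presheaf.stalk s) RS]
    [IsLocalHom (algebraMap (S.presheaf.stalk s) RS)] [Hensel.IsStrictHenselization (S.presheaf.stalk s) RS]
    (R : Type u) [CommRing R] [HenselianLocalRing R] [IsSepClosed (ResidueField R)] [Algebra RS R]
    [IsLocalHom (algebraMap RS R)] (η : Spec (CommRingCat.of R) ⟶ X) [WeaklyEtale η]
    (hη : η ≫ f = Spec.map (CommRingCat.ofHom (algebraMap RS R)) ≫ Hens2.specOf S s RS)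
    (Ω : Type u) [Field Ω] [IsSepClosed Ω] [Algebra RS Ω]
    [PreservesFiniteLimits (EtCoh.pull (Spec.map (CommRingCat.ofHom (algebraMap R (R ⊗[RS] Ω)))))] (q : ℕ) :
    Function.Bijective (EtCore.Hpull (Spec.map (CommRingCat.ofHom (algebraMap R (R ⊗[RS] Ω))))
      ((EtCoh.pull η).obj F) q) := by
  have hs : f (η (closedPoint R)) = s := by
    show (η ≫ f) (closedPoint R) = s
    rw [hη, Scheme.Hom.comp_apply, Scheme.Hom.comp_apply,
      show (Spec.map (CommRingCat.ofHom (algebraMap RS R))) (closedPoint R) = closedPoint RS from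
        IsLocalRing.comap_closedPoint (algebraMap RS R),
      show (Spec.map (CommRingCat.ofHom (algebraMap (S.presheaf.stalk s) RS))) (closedPoint RS) =
        closedPoint (S.presheaf.stalk s) from IsLocalRing.comap_closedPoint (algebraMap (S.presheaf.stalk s) RS)]
    exact Scheme.fromSpecStalk_closedPoint
  let x := η (closedPoint R)
  subst hs
  letI : Algebra (X.presheaf.stalk x) R := (Scheme.stalkClosedPointTo η).hom.toAlgebra
  obtain ⟨_, _⟩ := isStrictHenselization_closedPointTo R η
  have hx : Hens2.specOf X x R = η := Scheme.Spec_stalkClosedPointTo_fromSpecStalk η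
  have hc : (algebraMap RS R).comp (algebraMap (S.presheaf.stalk (f x)) RS) =
      (algebraMap (X.presheaf.stalk x) R).comp (f.stalkMap x).hom := by
    have h : CommRingCat.ofHom (algebraMap (S.presheaf.stalk (f x)) RS) ≫ CommRingCat.ofHom (algebraMap RS R) =
        f.stalkMap x ≫ CommRingCat.ofHom (algebraMap (X.presheaf.stalk x) R) := by
      apply Spec.map_injective
      rw [← cancel_mono (S.fromSpecStalk (f x)), Spec.map_comp, Spec.map_comp, Category.assoc, Category.assoc,
        Scheme.SpecMap_stalkMap_fromSpecStalk, ← hη]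
      exact (congrArg (· ≫ f) hx).symm.trans (Category.assoc _ _ _)
    exact congrArg CommRingCat.Hom.hom h
  have hq := hla x RS R hc Ω q
  exact bijective_Hpull_congr _ ((EtCore.pullCongr hx).app F) q hq

variable {X S : Scheme.{u}} {f : X ⟶ S} {F : EtCoh.Ab X} (hla : SGA4h.IsLARel f F) (s : S) (RS : Type u)
  [CommRing RS] [IsLocalRing RS] [Algebra (S.presheaf.stalk s) RS]
  [IsLocalHom (algebraMap (S.presheaf.stalk s) RS)] [Hensel.IsStrictHenselization (S.presheaf.stalk s) RS]
  {X' : Scheme.{u}} {f' : X' ⟶ Spec (CommRingCat.of RS)} {p : X' ⟶ X}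
  (cX : IsPullback p f' f (Hens2.specOf S s RS))
  {Ω : Type u} [Field Ω] [IsSepClosed Ω] {τ : RS →+* Ω}
  {Xt : Scheme.{u}} {h : Xt ⟶ X'} {ft : Xt ⟶ Spec (CommRingCat.of Ω)}
  (ct : IsPullback h ft f' (Spec.map (CommRingCat.ofHom τ)))

include hla cX ct in
theorem bijective_Hpull_snd (R : Type u) [CommRing R] [HenselianLocalRing R] [IsSepClosed (ResidueField R)]
    (η : Spec (CommRingCat.of R) ⟶ X') [WeaklyEtale η] (hη : f' (η (closedPoint R)) = closedPoint RS)
    [PreservesFiniteLimits (EtCoh.pull (pullback.snd h η))] (q : ℕ) :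
    Function.Bijective (EtCore.Hpull (pullback.snd h η) ((EtCoh.pull η).obj ((EtCoh.pull p).obj F)) q) := by
  haveI : WeaklyEtale p :=
    MorphismProperty.of_isPullback (P := @WeaklyEtale) cX.flip (Acyclic0.weaklyEtale_fromStrict s RS)
  letI : Algebra RS R := (Spec.preimage (η ≫ f')).hom.toAlgebra
  letI : Algebra RS Ω := τ.toAlgebra
  have hψ : Spec.map (CommRingCat.ofHom (algebraMap RS R)) = η ≫ f' := Spec.map_preimage _
  haveI : IsLocalHom (algebraMap RS R) :=
    ((IsLocalRing.local_hom_TFAE (algebraMap RS R)).out 0 4).2 (PrimeSpectrum.ext_iff.1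
      (show (Spec.map (CommRingCat.ofHom (algebraMap RS R))) (closedPoint R) = closedPoint RS by
        rw [hψ]; exact hη))
  let a := Spec.map (CommRingCat.ofHom (algebraMap R (R ⊗[RS] Ω)))
  haveI := EtSite.preservesFiniteLimits_pull a
  haveI : WeaklyEtale (η ≫ p) := inferInstance
  have hb := bijective_Hpull_of_isLARel hla s RS R (η ≫ p)
    (by rw [hψ, Category.assoc, Category.assoc, cX.w]) Ω q
  have po : IsPushout (CommRingCat.ofHom (algebraMap RS R)) (CommRingCat.ofHom (algebraMap RS Ω))
      (CommRingCat.ofHom (algebraMap R (R ⊗[RS] Ω)))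
      (CommRingCat.ofHom (Algebra.TensorProduct.includeRight (R := RS) (A := R) (B := Ω)).toRingHom) :=
    CommRingCat.isPushout_tensorProduct RS R Ω
  have pb : IsPullback a (Spec.map (CommRingCat.ofHom (Algebra.TensorProduct.includeRight (R := RS) (A := R)
      (B := Ω)).toRingHom)) (η ≫ f') (Spec.map (CommRingCat.ofHom τ)) :=
    hψ ▸ isPullback_SpecMap_of_isPushout _ _ _ _ po
  have cv : IsPullback (pullback.snd h η) (pullback.fst h η ≫ ft) (η ≫ f') (Spec.map (CommRingCat.ofHom τ)) :=
    ((IsPullback.of_hasPullback h η).flip.flip.paste_horiz ct.flip).flip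
  let k := pb.lift (pullback.snd h η) (pullback.fst h η ≫ ft) cv.w
  haveI : IsIso k := (cv.isoIsPullback _ _ pb).isIso_hom |> fun h => by
    convert h
    refine pb.hom_ext ?_ ?_
    · rw [pb.lift_fst, IsPullback.isoIsPullback_hom_fst]
    · rw [pb.lift_snd, IsPullback.isoIsPullback_hom_snd]
  haveI := isIso_gamma η p rfl F
  exact bijective_Hpull_congr _ (asIso (gamma η p rfl F)) q
    (bijective_Hpull_iso_comp k a (pb.lift_fst _ _ _) _ q hb)

include hla cX ct in
theorem stalks_closedFibre (y : X') (hy : f' y = closedPoint RS) (R : Type u) [CommRing R] [IsLocalRing R]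
    [Algebra (X'.presheaf.stalk y) R] [IsLocalHom (algebraMap (X'.presheaf.stalk y) R)]
    [Hensel.IsStrictHenselization (X'.presheaf.stalk y) R] [HenselianLocalRing R] [IsSepClosed (ResidueField R)] :
    Function.Bijective ((EtCoh.stalk (Hens2.geomPt X' y R)).map
      ((EtCoh.pullPushAdj h).unit.app ((EtCoh.pull p).obj F))) ∧
    ∀ q : ℕ, 0 < q → IsZero ((EtCoh.stalk (Hens2.geomPt X' y R)).obj
      ((EtCoh.Rpush h q).obj ((EtCoh.pull h).obj ((EtCoh.pull p).obj F)))) := by
  let η := Hens2.specOf X' y R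
  let M := (EtCoh.pull p).obj F
  haveI : WeaklyEtale η := Acyclic0.weaklyEtale_fromStrict y R
  haveI : IsAffineHom h := MorphismProperty.of_isPullback (P := @IsAffineHom) ct.flip inferInstance
  have hη : f' (η (closedPoint R)) = closedPoint RS := (congrArg f' (specOf_closedPoint y R)).trans hy
  let a := pullback.snd h η
  let gW := pullback.fst h η
  haveI := EtSite.preservesFiniteLimits_pull a
  haveI := EtSite.preservesFiniteLimits_pull gW
  haveI := EtSite.preservesFiniteLimits_pull η
  have hb := bijective_Hpull_snd hla s RS cX ct R η hη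
  refine ⟨?_, fun q hq => ?_⟩
  · haveI := isIso_bcQ_specOf h y R a gW (IsPullback.of_hasPullback h η) 0 ((EtCoh.pull h).obj M)
    haveI := CompTransfer.isIso_baseChange0_of_bcQ η h gW a
      (IsPullback.of_hasPullback h η).w ((EtCoh.pull h).obj M)
    let T := op (EtCoh.top (Spec (CommRingCat.of R)))
    let c := EtCoh.baseChange0 h η a gW (IsPullback.of_hasPullback h η).w ((EtCoh.pull h).obj M)
    let k := (EtCoh.push a).map ((L28.AcycCrit.kap h η a gW (IsPullback.of_hasPullback h η).w).hom.app M)
    refine bijective_stalk_geomPt y R _ ?_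
    have h0 := (CompTransfer.bijective_Hpull_zero_iff a _).1 (hb 0)
    have h1 := (ConcreteCategory.bijective_of_isIso (((sheafToPresheaf _ _).map k).app T)).comp h0
    have e : c.hom.app T ∘ ((EtCoh.pull η).map ((EtCoh.pullPushAdj h).unit.app M)).hom.app T =
        k.hom.app T ∘ ((EtCoh.pullPushAdj a).unit.app ((EtCoh.pull η).obj M)).hom.app T :=
      funext fun z => congrArg (fun m => m.hom.app T z)
        (L28.AcycCrit.unit_square h η a gW (IsPullback.of_hasPullback h η).w M)
    haveI : IsIso c := inferInstance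
    exact ((ConcreteCategory.bijective_of_isIso (((sheafToPresheaf _ _).map c).app T)).of_comp_iff' _).1
      (e.symm ▸ h1)
  · obtain ⟨i⟩ := StalkRpush.nonempty_natIso h y R q
    refine IsZero.of_iso ?_ (i.app ((EtCoh.pull h).obj M))
    let K := L28.AcycCrit.kap h η a gW (IsPullback.of_hasPullback h η).w
    refine IsZero.of_iso ?_ ((EtCoh.HF (pullback h η) q).mapIso (K.app M)).symm
    haveI := EtSite.subsingleton_H R ((EtCoh.pull η).obj M) q hq
    haveI : Subsingleton (EtCoh.H (pullback h η) ((EtCoh.pull a).obj ((EtCoh.pull η).obj M)) q) :=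
      (Equiv.ofBijective _ (hb q)).subsingleton_congr.1 inferInstance
    exact AddCommGrpCat.isZero_of_subsingleton
      (AddCommGrpCat.of (EtCoh.H (pullback h η) ((EtCoh.pull a).obj ((EtCoh.pull η).obj M)) q))

include hla cX ct in
/-- The geometric fibre has no vanishing cycles along the closed fibre. -/
theorem closedFibre_acyclic {Xs : Scheme.{u}} {i : Xs ⟶ X'} {fs : Xs ⟶ Spec (CommRingCat.of (ResidueField RS))}
    (cs : IsPullback i fs f' (Spec.map (CommRingCat.ofHom (residue RS)))) :
    IsIso ((EtCoh.pull i).map ((EtCoh.pullPushAdj h).unit.app ((EtCoh.pull p).obj F))) ∧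
      ∀ q : ℕ, 0 < q →
        IsZero ((EtCoh.pull i).obj ((EtCoh.Rpush h q).obj ((EtCoh.pull h).obj ((EtCoh.pull p).obj F)))) := by
  let M := (EtCoh.pull p).obj F
  let φ := (EtCoh.pullPushAdj h).unit.app M
  haveI : IsClosedImmersion i := MorphismProperty.of_isPullback (P := @IsClosedImmersion) cs.flip
    (IsClosedImmersion.spec_of_surjective _ IsLocalRing.residue_surjective)
  have key : ∀ z : Xs, ∃ (K : Type u) (_ : Field K) (_ : IsSepClosed K) (ξ : Spec (CommRingCat.of K) ⟶ Xs),
      ξ.base default = z ∧ Function.Bijective ((EtCoh.stalk ξ).map ((EtCoh.pull i).map φ)) ∧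
        ∀ q : ℕ, 0 < q → IsZero ((EtCoh.stalk ξ).obj
          ((EtCoh.pull i).obj ((EtCoh.Rpush h q).obj ((EtCoh.pull h).obj M)))) := by
    intro z
    let y := i z
    have hy : f' y = closedPoint RS := by
      show (i ≫ f') z = _
      rw [cs.w, Scheme.Hom.comp_apply, Subsingleton.elim (fs z) (closedPoint (ResidueField RS))]
      exact IsLocalRing.comap_closedPoint (residue RS)
    obtain ⟨R, _, _, _, _, hR⟩ := L05.Henselization.exists_isStrictHenselization (X'.presheaf.stalk y)
    haveI : HenselianLocalRing R := hR.henselian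
    haveI : IsSepClosed (ResidueField R) := hR.isSepClosure.sep_closed
    obtain ⟨hb, hz⟩ := stalks_closedFibre hla s RS cX ct y hy R
    let η := Hens2.specOf X' y R
    have hηc : η (closedPoint R) = y := specOf_closedPoint y R
    let ψ := Spec.preimage (η ≫ f')
    have hψ : Spec.map ψ = η ≫ f' := Spec.map_preimage _
    haveI : IsLocalHom ψ.hom :=
      ((IsLocalRing.local_hom_TFAE ψ.hom).out 0 4).2 (PrimeSpectrum.ext_iff.1
        (show (Spec.map ψ) (closedPoint R) = closedPoint RS by rw [hψ, Scheme.Hom.comp_apply, hηc]; exact hy))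
    have w : Hens2.geomPt X' y R ≫ f' =
        Spec.map (CommRingCat.ofHom (ResidueField.map ψ.hom)) ≫ Spec.map (CommRingCat.ofHom (residue RS)) := by
      rw [Category.assoc, ← hψ, ← Spec.map_comp, ← Spec.map_comp]
      exact congrArg Spec.map (CommRingCat.hom_ext (ResidueField.map_comp_residue ψ.hom).symm)
    let ξ := cs.lift (Hens2.geomPt X' y R) _ w
    have hξ : ξ ≫ i = Hens2.geomPt X' y R := cs.lift_fst _ _ _
    refine ⟨ResidueField R, inferInstance, inferInstance, ξ, i.isClosedEmbedding.injective ?_, ?_, fun q hq => ?_⟩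
    · show (ξ ≫ i) default = y
      rw [hξ, Scheme.Hom.comp_apply]
      refine Eq.trans (congrArg η ?_) hηc
      rw [Subsingleton.elim (default : Spec (CommRingCat.of (ResidueField R))) (closedPoint (ResidueField R))]
      exact IsLocalRing.comap_closedPoint (residue R)
    · exact (bijective_stalk_comp i ξ hξ φ).2 hb
    · refine IsZero.of_iso ?_ ((EtSite.stalkPullIso i ξ).app _)
      rw [hξ]
      exact hz q hq
  constructor
  · haveI : Mono ((EtCoh.pull i).map φ) := by
      have : Sheaf.IsLocallyInjective ((EtCoh.pull i).map φ) :=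
        EtSite.isLocallyInjective_of_some_stalks _ fun z => by
          obtain ⟨K, _, _, ξ, hξ, hb, -⟩ := key z
          exact ⟨K, _, inferInstance, ξ, hξ, hb.1⟩
      exact Sheaf.mono_of_isLocallyInjective _
    haveI : Epi ((EtCoh.pull i).map φ) :=
      (Sheaf.isLocallySurjective_iff_epi' (φ := (EtCoh.pull i).map φ)).1
        (EtSite.isLocallySurjective_of_some_stalks _ fun z => by
          obtain ⟨K, _, _, ξ, hξ, hb, -⟩ := key z
          exact ⟨K, _, inferInstance, ξ, hξ, hb.2⟩)
    exact isIso_of_mono_of_epi _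
  · intro q hq
    let N := (EtCoh.pull i).obj ((EtCoh.Rpush h q).obj ((EtCoh.pull h).obj M))
    have hl : Sheaf.IsLocallyInjective (0 : N ⟶ N) :=
      EtSite.isLocallyInjective_of_some_stalks _ fun z => by
        obtain ⟨K, _, _, ξ, hξ, -, hz⟩ := key z
        refine ⟨K, _, inferInstance, ξ, hξ, fun a b _ => ?_⟩
        haveI := AddCommGrpCat.subsingleton_of_isZero (hz q hq)
        exact Subsingleton.elim (α := (EtCoh.stalk ξ).obj N) a b
    haveI : Mono (0 : N ⟶ N) := Sheaf.mono_of_isLocallyInjective _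
    exact (IsZero.iff_id_eq_zero N).2 (by rw [← cancel_mono (0 : N ⟶ N)]; simp)

end Groth.L27.LimBC
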