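import Groth.Agent.L27.LimBC.Final
import Groth.Agent.L27.StalkRpush.Final
import Groth.Agent.L27.CompTransfer.Transfer

/-! # Base change along strict localizations -/

universe u

open CategoryTheory CategoryTheory.Limits AlgebraicGeometry Opposite

set_option backward.defeqAttrib.useBackward true
set_option backward.isDefEq.respectTransparency false
set_option backward.isDefEq.respectTransparency.types false
set_option linter.style.haveILetI false
set_option linter.unusedSectionVars false

noncomputable section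

namespace Groth.L27.LimBC

open Groth.L27.LimCoh Groth.L05.Henselization

section Const

variable (I : Type u) [SmallCategory I] (T : Scheme.{u})

/-- The constant diagram. -/
abbrev constD : I ⥤ Scheme.{u} := (Functor.const I).obj T

/-- The tautological cone over a constant diagram. -/
abbrev constC : Cone (constD I T) where
  pt := T
  π := { app := fun _ => 𝟙 T }

/-- A constant diagram has the tautological limit. -/
def isLimitConstC [IsCofiltered I] : IsLimit (constC I T) :=
  haveI : IsConnected I := IsCofiltered.isConnected I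
  IsLimit.ofIsoLimit (isLimitConstCone I T) (Cone.ext (Iso.refl _) fun _ => (Category.id_comp _).symm)

variable {T}

theorem isIso_pushUnit₀ (F : EtCoh.Ab T) : IsIso (pushUnit₀ (𝟙 T) rfl F) := by
  refine ⟨pushUnit₀Inv (𝟙 T) rfl F, ?_, pushUnit₀Inv_comp (𝟙 T) rfl F⟩
  refine sheafHom_ext fun V s => ?_
  refine (Functor.map_comp_apply F.obj _ _ _).symm.trans ?_
  refine Eq.trans ?_ (congr($(F.obj.map_id _) s))
  exact congrArg (fun l => F.obj.map (Quiver.Hom.op l) s)
    (MorphismProperty.Over.Hom.ext (lift_fstB (𝟙 T) _ _))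

/-- The direct image along the identity is the identity. -/
def pushId : 𝟭 (EtCoh.Ab T) ≅ EtCoh.push (𝟙 T) :=
  NatIso.ofComponents (fun F => @asIso _ _ _ _ _ (isIso_pushUnit₀ F))
    fun φ => (pushUnit₀_naturality (𝟙 T) rfl φ).symm

theorem isIso_transpose_pushUnit₀ (F : EtCoh.Ab T) :
    IsIso (((EtCoh.pullPushAdj (𝟙 T)).homEquiv F F).symm (pushUnit₀ (𝟙 T) rfl F)) := by
  haveI : (EtCoh.push (𝟙 T)).Full := Functor.Full.of_iso pushId
  haveI : (EtCoh.push (𝟙 T)).Faithful := Functor.Faithful.of_iso pushId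
  haveI := isIso_pushUnit₀ F
  rw [Adjunction.homEquiv_counit]
  infer_instance

/-- The constant system. -/
def constSys (F : EtCoh.Ab T) : Sys (constD I T) where
  F _ := F
  ψ _ := pushUnit₀ (𝟙 T) rfl F
  ψ_id _ := rfl
  ψ_comp h g := ((pushUnit₀_comp_pushJoin (𝟙 T) (𝟙 T) rfl rfl (Category.comp_id _)
    (pushUnit₀ (𝟙 T) rfl F)).trans (by rw [eqToHom_refl, Category.comp_id])).symm

/-- The constant sheaf receives the constant system. -/
def constCocn (F : EtCoh.Ab T) : Cocn (constSys I F) (constC I T) where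
  M := F
  a _ := pushUnit₀ (𝟙 T) rfl F
  comm g := (constSys I F).ψ_comp (𝟙 _) g

theorem isIso_toLim_constCocn [IsCofiltered I] (F : EtCoh.Ab T) : IsIso (toLim (constCocn I F)) := by
  let t := (constCocn I F).cocone
  haveI : ∀ a, IsIso (t.ι.app a) := fun _ => isIso_transpose_pushUnit₀ F
  let v (s : Cocone (diag (constC I T) (constSys I F))) (a : Iᵒᵖ) : F ⟶ s.pt := inv (t.ι.app a) ≫ s.ι.app a
  have hv : ∀ s (a b : Iᵒᵖ), v s a = v s b := by
    intro s a b
    have step : ∀ {a b : Iᵒᵖ} (_ : a ⟶ b), v s a = v s b := fun {a b} k => by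
      show inv (t.ι.app a) ≫ s.ι.app a = inv (t.ι.app b) ≫ s.ι.app b
      rw [IsIso.inv_comp_eq, ← t.w k, Category.assoc, IsIso.hom_inv_id_assoc, s.w k]
    exact (step (IsFiltered.leftToMax a b)).trans (step (IsFiltered.rightToMax a b)).symm
  obtain ⟨a₀⟩ := IsFiltered.nonempty (C := Iᵒᵖ)
  have ht : IsColimit t :=
    { desc := fun s => v s a₀
      fac := fun s a => by
        rw [hv s a₀ a]
        exact IsIso.hom_inv_id_assoc _ _
      uniq := fun s m hm => by
        show m = inv (t.ι.app a₀) ≫ s.ι.app a₀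
        rw [IsIso.eq_inv_comp]
        exact hm a₀ }
  have key : toLim (constCocn I F) = ((colimit.isColimit _).coconePointUniqueUpToIso ht).hom :=
    colimit.hom_ext fun a => (colimit.ι_desc _ a).trans
      (IsColimit.comp_coconePointUniqueUpToIso_hom (colimit.isColimit _) ht a).symm
  rw [key]
  infer_instance

end Const

section Chart

open StalkRpush

variable {T S : Scheme.{u}} (f : T ⟶ S) [QuasiCompact f] [QuasiSeparated f] (B : Type u) [CommRing B]
  (j : Spec (CommRingCat.of B) ⟶ S) [IsOpenImmersion j] (K : Type u) [Field K] [IsSepClosed K] [Algebra B K]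
  (R : Type u) [CommRing R] [Algebra B R] (e : Col B K ≃ₐ[B] R) (F : EtCoh.Ab T) (q : ℕ)

theorem isIso_bcQ_chart (η : Spec (CommRingCat.of R) ⟶ S) (hη : η = toBase B R ≫ j)
    [PreservesFiniteLimits (EtCoh.pull (pullback.fst f η))] (e : Col B K ≃ₐ[B] R) :
    IsIso (EtBC.bcQ f η (pullback.snd f η) (pullback.fst f η) pullback.condition q F) := by
  subst hη
  let D₀ := nb B j K ⋙ Scheme.Etale.forget S ⋙ CategoryTheory.Over.forget S
  let fN : D₀ ⟶ constD (Idx B K) S :=
    { app := fun i => ((nb B j K).obj i).hom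
      naturality := fun i k g => (MorphismProperty.Over.w ((nb B j K).map g)).trans (Category.comp_id _).symm }
  let gN : constD (Idx B K) T ⟶ constD (Idx B K) S := (Functor.const _).map f
  let hN : StalkRpush.D f B j K ⟶ D₀ :=
    { app := fun i => fstB f ((nb B j K).obj i)
      naturality := fun i k g => fstB_nat f ((nb B j K).map g) }
  let eN : StalkRpush.D f B j K ⟶ constD (Idx B K) T :=
    { app := fun i => tt f B j K i
      naturality := fun i k g => (D_w f B j K g).trans (Category.comp_id _).symm }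
  haveI : ∀ i, PreservesFiniteLimits (EtCoh.pull (eN.app i)) := fun i => EtSite.preservesFiniteLimits_pull _
  haveI : ∀ i, QuasiCompact (gN.app i) := fun _ => ‹QuasiCompact f›
  haveI : ∀ i, QuasiSeparated (gN.app i) := fun _ => ‹QuasiSeparated f›
  haveI : ∀ (a b : Idx B K) (m : a ⟶ b), IsAffineHom (D₀.map m) := fun a b m =>
    inferInstanceAs (IsAffineHom (trans B K m))
  haveI : ∀ (a b : Idx B K) (m : a ⟶ b), IsAffineHom ((constD (Idx B K) S).map m) := fun a b m =>
    inferInstanceAs (IsAffineHom (𝟙 S))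
  haveI : ∀ (a b : Idx B K) (m : a ⟶ b), IsAffineHom ((constD (Idx B K) T).map m) := fun a b m =>
    inferInstanceAs (IsAffineHom (𝟙 T))
  haveI : ∀ (a b : Idx B K) (m : a ⟶ b), IsAffineHom ((StalkRpush.D f B j K).map m) := fun a b m =>
    isAffineHom_D f B j K m
  have sq : ∀ i, IsPullback (eN.app i) (hN.app i) (gN.app i) (fN.app i) := fun i =>
    (IsPullback.of_hasPullback ((nb B j K).obj i).hom f).flip
  haveI := isIso_toLim_constCocn (Idx B K) F
  let e₀ : (cone f B j K R e).pt ⟶ (constC (Idx B K) T).pt := pullback.fst f _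
  haveI := EtSite.preservesFiniteLimits_pull e₀
  refine isIso_bcQ_limit (fN := fN) (gN := gN) (hN := hN) (eN := eN) sq
    (cX := specCone B j K R e) (cS := constC (Idx B K) S) (cT := constC (Idx B K) T) (cY := cone f B j K R e)
    (f := toBase B R ≫ j) (g := f) (h := pullback.snd f _) (e := e₀)
    (fun i => ?_) (fun i => (Category.comp_id _).trans (Category.id_comp _).symm)
    (fun i => (rr_fst f B j K R e i).symm) (fun i => (Category.comp_id _).trans (rr_hom f B j K R e i).symm)
    (IsPullback.of_hasPullback f _) q (isLimitSpecCone B j K R e) (isLimitConstC _ S) (isLimitConstC _ T)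
    (isLimitCone f B j K R e) (constCocn (Idx B K) F) (fun i => ?_)
  · refine (Category.comp_id _).trans ?_
    show toBase B R ≫ j = Spec.map (CommRingCat.ofHom (toR B K R e i).toRingHom) ≫ toBase B i.unop.R ≫ j
    rw [← Category.assoc, map_toBase B (toR B K R e i)]
  · haveI : Etale (fN.app i) := ((nb B j K).obj i).prop
    exact L10.EtLocalBC.isIso_bcQ_of_etale (gN.app i) (fN.app i) (hN.app i) (eN.app i) (sq i) q _

end Chart

/-- Base change along the strict localization at a point is invertible. -/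
theorem isIso_bcQ_specOf {T S : Scheme.{u}} (f : T ⟶ S) [QuasiCompact f] [QuasiSeparated f] (s : S) (R : Type u)
    [CommRing R] [IsLocalRing R] [Algebra (S.presheaf.stalk s) R] [IsLocalHom (algebraMap (S.presheaf.stalk s) R)]
    [Hensel.IsStrictHenselization (S.presheaf.stalk s) R] {W : Scheme.{u}} (a : W ⟶ Spec (CommRingCat.of R))
    (gW : W ⟶ T) (c : IsPullback gW a f (Hens2.specOf S s R)) [PreservesFiniteLimits (EtCoh.pull gW)] (q : ℕ)
    (F : EtCoh.Ab T) : IsIso (EtBC.bcQ f (Hens2.specOf S s R) a gW c.w q F) := by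
  haveI : IsSepClosed (IsLocalRing.ResidueField R) :=
    (Hensel.IsStrictHenselization.isSepClosure (R := S.presheaf.stalk s) (S := R)).sep_closed
  obtain ⟨V, hV, hsV⟩ : ∃ V : S.Opens, IsAffineOpen V ∧ s ∈ V := by
    obtain ⟨_, ⟨V, hV, rfl⟩, hsV, -⟩ :=
      S.isBasis_affineOpens.exists_subset_of_mem_open (Set.mem_univ s) isOpen_univ
    exact ⟨V, hV, hsV⟩
  letI : Algebra Γ(S, V) (S.presheaf.stalk s) := (S.presheaf.germ V s hsV).hom.toAlgebra
  haveI : IsLocalization.AtPrime (S.presheaf.stalk s) (hV.primeIdealOf ⟨s, hsV⟩).asIdeal :=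
    hV.isLocalization_stalk ⟨s, hsV⟩
  letI : Algebra Γ(S, V) R := ((algebraMap (S.presheaf.stalk s) R).comp (S.presheaf.germ V s hsV).hom).toAlgebra
  haveI : IsScalarTower Γ(S, V) (S.presheaf.stalk s) R := IsScalarTower.of_algebraMap_eq' rfl
  obtain ⟨e, -⟩ := StalkRpush.exists_algEquiv Γ(S, V) (hV.primeIdealOf ⟨s, hsV⟩).asIdeal (S.presheaf.stalk s) R
  have hη : Hens2.specOf S s R = StalkRpush.toBase Γ(S, V) R ≫ hV.fromSpec := by
    show Spec.map (CommRingCat.ofHom (algebraMap (S.presheaf.stalk s) R)) ≫ S.fromSpecStalk s = _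
    rw [← hV.fromSpecStalk_eq_fromSpecStalk hsV]
    show Spec.map (CommRingCat.ofHom (algebraMap (S.presheaf.stalk s) R)) ≫
      Spec.map (S.presheaf.germ V s hsV) ≫ hV.fromSpec = _
    rw [← Spec.map_comp_assoc]
    rfl
  let η := Hens2.specOf S s R
  haveI := EtSite.preservesFiniteLimits_pull (pullback.fst f η)
  have h1 := isIso_bcQ_chart f Γ(S, V) hV.fromSpec (IsLocalRing.ResidueField R) R F q η hη e
  let k := (IsPullback.isoPullback c).hom
  have cu : IsPullback k a (pullback.snd f η) (𝟙 (Spec (CommRingCat.of R))) :=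
    IsPullback.of_horiz_isIso ⟨((IsPullback.isoPullback_hom_snd c).trans (Category.comp_id _).symm)⟩
  haveI := EtSite.preservesFiniteLimits_pull k
  haveI := EtSite.preservesFiniteLimits_pull (k ≫ pullback.fst f η)
  have hk : k ≫ pullback.fst f η = gW := IsPullback.isoPullback_hom_fst c
  have w₃ : (k ≫ pullback.fst f η) ≫ f = a ≫ (𝟙 _ ≫ η) := by rw [hk, Category.id_comp]; exact c.w
  have h3 := L10.EtBCComp.isIso_bcQ_vcomp η f (pullback.snd f η) (pullback.fst f η) (𝟙 _) a k pullback.condition cu.w w₃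
    F q h1 (L10.EtLocalBC.isIso_bcQ_of_etale _ _ _ _ cu q _)
  exact L10.EtLocalBC.isIso_bcQ_congr f a (Category.id_comp _) hk w₃ c.w q F h3

end Groth.L27.LimBC
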