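import Groth.Agent.L27.LimCoh.StageSys
import Groth.Agent.L27.LimCoh.Compare
import Groth.Agent.L27.EtSite.Pull

/-! # Inverse images of systems along morphisms of diagrams -/

universe u

open CategoryTheory CategoryTheory.Limits AlgebraicGeometry Opposite

set_option backward.isDefEq.respectTransparency.types false
set_option linter.style.haveILetI false
set_option linter.unusedSectionVars false

noncomputable section

namespace Groth.L27.LimBC

open Groth.L27.LimCoh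

section Cmp

variable {W Z Y X : Scheme.{u}}

/-- Composition of maps into direct images. -/
def cmp (f : Z ⟶ Y) (g : Y ⟶ X) {k : Z ⟶ X} (w : f ≫ g = k) {A : EtCoh.Ab X} {B : EtCoh.Ab Y} {C : EtCoh.Ab Z}
    (x : A ⟶ (EtCoh.push g).obj B) (y : B ⟶ (EtCoh.push f).obj C) : A ⟶ (EtCoh.push k).obj C :=
  x ≫ (EtCoh.push g).map y ≫ pushJoin f g w C

variable (f : Z ⟶ Y) (g : Y ⟶ X) {k : Z ⟶ X} (w : f ≫ g = k) {A : EtCoh.Ab X} {B : EtCoh.Ab Y} {C : EtCoh.Ab Z}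

theorem cmp_post (x : A ⟶ (EtCoh.push g).obj B) (y : B ⟶ (EtCoh.push f).obj C) {C' : EtCoh.Ab Z} (φ : C ⟶ C') :
    cmp f g w x y ≫ (EtCoh.push k).map φ = cmp f g w x (y ≫ (EtCoh.push f).map φ) := by
  simp only [cmp, Functor.map_comp, Category.assoc]
  rw [← pushJoin_naturality]

theorem cmp_pre {A' : EtCoh.Ab X} (φ : A' ⟶ A) (x : A ⟶ (EtCoh.push g).obj B) (y : B ⟶ (EtCoh.push f).obj C) :
    φ ≫ cmp f g w x y = cmp f g w (φ ≫ x) y :=
  (Category.assoc _ _ _).symm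

theorem cmp_mid (x : A ⟶ (EtCoh.push g).obj B) {B' : EtCoh.Ab Y} (φ : B ⟶ B') (y : B' ⟶ (EtCoh.push f).obj C) :
    cmp f g w (x ≫ (EtCoh.push g).map φ) y = cmp f g w x (φ ≫ y) := by
  simp only [cmp, Functor.map_comp, Category.assoc]

theorem cmp_assoc (f : W ⟶ Z) (g : Z ⟶ Y) (h : Y ⟶ X) {fg : W ⟶ Y} {gh : Z ⟶ X} {k : W ⟶ X} (w₁ : f ≫ g = fg)
    (w₂ : g ≫ h = gh) (wL : f ≫ gh = k) (wR : fg ≫ h = k) {E : EtCoh.Ab W} (x : A ⟶ (EtCoh.push h).obj B)
    (y : B ⟶ (EtCoh.push g).obj C) (z : C ⟶ (EtCoh.push f).obj E) :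
    cmp f gh wL (cmp g h w₂ x y) z = cmp fg h wR x (cmp f g w₁ y z) := by
  simp only [cmp, Functor.map_comp, Category.assoc]
  rw [pushJoin_assoc f g h w₁ w₂ wR wL E, ← Category.assoc (pushJoin g h w₂ C), ← pushJoin_naturality,
    Category.assoc]

theorem cmp_unit₀_left (e : X ⟶ X) (he : e = 𝟙 X) (f : Z ⟶ X) (w : f ≫ e = f) (x : A ⟶ (EtCoh.push f).obj C) :
    cmp f e w (pushUnit₀ e he A) x = x := by
  rw [cmp, pushUnit₀_comp_pushJoin f e he rfl w, eqToHom_refl, Category.comp_id]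

theorem cmp_unit₀_right (e : Y ⟶ Y) (he : e = 𝟙 Y) (g : Y ⟶ X) (w : e ≫ g = g) (x : A ⟶ (EtCoh.push g).obj B) :
    cmp e g w x (pushUnit₀ e he B) = x := by
  rw [cmp, pushUnit₀_pushJoin_right, Category.comp_id]

/-- The unit of the inverse image. -/
abbrev un (g : Y ⟶ X) (A : EtCoh.Ab X) : A ⟶ (EtCoh.push g).obj ((EtCoh.pull g).obj A) :=
  (EtCoh.pullPushAdj g).unit.app A

theorem cmp_un_injective {y y' : (EtCoh.pull g).obj A ⟶ (EtCoh.push f).obj C}
    (h : cmp f g w (un g A) y = cmp f g w (un g A) y') : y = y' := by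
  refine ((EtCoh.pullPushAdj g).homEquiv _ _).injective ?_
  rw [Adjunction.homEquiv_unit, Adjunction.homEquiv_unit]
  have h' := congrArg (· ≫ pushSplit f g w C) h
  simpa [cmp, Category.assoc, pushJoin_pushSplit] using h'

end Cmp

section Hat

variable {X₀ X₁ Y₀ Y₁ : Scheme.{u}} (b₀ : Y₀ ⟶ X₀) (b₁ : Y₁ ⟶ X₁) (v : Y₁ ⟶ Y₀) (u : X₁ ⟶ X₀)
  (w : b₁ ≫ u = v ≫ b₀) {A : EtCoh.Ab X₀} {B : EtCoh.Ab X₁}

/-- The inverse image of a map into a direct image along a square. -/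
def pullHat (a : A ⟶ (EtCoh.push u).obj B) :
    (EtCoh.pull b₀).obj A ⟶ (EtCoh.push v).obj ((EtCoh.pull b₁).obj B) :=
  ((EtCoh.pullPushAdj b₀).homEquiv _ _).symm (cmp b₁ u w a (un b₁ B) ≫ pushSplit v b₀ rfl _)

theorem cmp_pullHat (a : A ⟶ (EtCoh.push u).obj B) {k : Y₁ ⟶ X₀} (w₁ : v ≫ b₀ = k) (w₂ : b₁ ≫ u = k) :
    cmp v b₀ w₁ (un b₀ A) (pullHat b₀ b₁ v u w a) = cmp b₁ u w₂ a (un b₁ B) := by
  subst w₁
  have e : un b₀ A ≫ (EtCoh.push b₀).map (pullHat b₀ b₁ v u w a) =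
      cmp b₁ u w a (un b₁ B) ≫ pushSplit v b₀ rfl _ :=
    ((EtCoh.pullPushAdj b₀).homEquiv_unit _ _ _).symm.trans (Equiv.apply_symm_apply _ _)
  refine (Category.assoc _ _ _).symm.trans ((congrArg (· ≫ _) e).trans ?_)
  rw [Category.assoc, pushSplit_pushJoin, Category.comp_id]

theorem pullHat_post (a : A ⟶ (EtCoh.push u).obj B) {B' : EtCoh.Ab X₁} (φ : B ⟶ B') :
    pullHat b₀ b₁ v u w (a ≫ (EtCoh.push u).map φ) =
      pullHat b₀ b₁ v u w a ≫ (EtCoh.push v).map ((EtCoh.pull b₁).map φ) := by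
  refine cmp_un_injective v b₀ rfl ?_
  rw [cmp_pullHat b₀ b₁ v u w _ rfl w, ← cmp_post, cmp_pullHat b₀ b₁ v u w _ rfl w, cmp_post, cmp_mid]
  exact congrArg _ ((EtCoh.pullPushAdj b₁).unit.naturality φ)

/-- The transposed inverse image. -/
def legMap (a : A ⟶ (EtCoh.push u).obj B) :
    (EtCoh.pull v).obj ((EtCoh.pull b₀).obj A) ⟶ (EtCoh.pull b₁).obj B :=
  ((EtCoh.pullPushAdj v).homEquiv _ _).symm (pullHat b₀ b₁ v u w a)

theorem legMap_post (a : A ⟶ (EtCoh.push u).obj B) {B' : EtCoh.Ab X₁} (φ : B ⟶ B') :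
    legMap b₀ b₁ v u w (a ≫ (EtCoh.push u).map φ) = legMap b₀ b₁ v u w a ≫ (EtCoh.pull b₁).map φ := by
  rw [legMap, legMap, pullHat_post, Adjunction.homEquiv_naturality_right_symm]

theorem isIso_gamma {X Y Z : Scheme.{u}} (f : Z ⟶ Y) (g : Y ⟶ X) {k : Z ⟶ X} (w : f ≫ g = k) (F : EtCoh.Ab X) :
    IsIso (gamma f g w F) := by
  rw [← pullTrans_eq_gamma f g w.symm F]
  infer_instance

theorem gamma_legMap : gamma v b₀ rfl A ≫ legMap b₀ b₁ v u w (un u A) = gamma b₁ u w A := by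
  refine ((EtCoh.pullPushAdj (v ≫ b₀)).homEquiv _ _).injective ?_
  have h₁ := homEquiv_gamma_comp v b₀ rfl A (un b₀ A) (pullHat b₀ b₁ v u w (un u A))
  have h₂ := homEquiv_gamma_comp b₁ u w A (un u A) (un b₁ ((EtCoh.pull u).obj A))
  have s : ∀ {P Q : Scheme.{u}} (r : P ⟶ Q) (M : EtCoh.Ab Q),
      ((EtCoh.pullPushAdj r).homEquiv _ _).symm (un r M) = 𝟙 _ := fun r M =>
    (Equiv.symm_apply_eq _).2 (Adjunction.homEquiv_id _ _).symm
  rw [s, CategoryTheory.Functor.map_id, Category.id_comp] at h₁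
  rw [s, s, CategoryTheory.Functor.map_id] at h₂
  refine h₁.trans ((cmp_pullHat b₀ b₁ v u w (un u A) rfl w).trans (h₂.symm.trans ?_))
  exact congrArg _ ((congrArg (_ ≫ ·) (Category.id_comp _)).trans (Category.comp_id _))

theorem isIso_legMap_un : IsIso (legMap b₀ b₁ v u w (un u A)) := by
  haveI := isIso_gamma v b₀ rfl A
  haveI := isIso_gamma b₁ u w A
  exact IsIso.of_isIso_fac_left (gamma_legMap b₀ b₁ v u w (A := A))

theorem pullHat_unit₀ {X Y : Scheme.{u}} (b : Y ⟶ X) (v : Y ⟶ Y) (u : X ⟶ X) (hv : v = 𝟙 Y) (hu : u = 𝟙 X)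
    (w : b ≫ u = v ≫ b) (A : EtCoh.Ab X) :
    pullHat b b v u w (pushUnit₀ u hu A) = pushUnit₀ v hv ((EtCoh.pull b).obj A) := by
  have w₁ : v ≫ b = b := by rw [hv, Category.id_comp]
  refine cmp_un_injective v b w₁ ?_
  rw [cmp_pullHat b b v u w _ w₁ (w.trans w₁), cmp_unit₀_left, cmp_unit₀_right]

theorem pullHat_comp {X₂ Y₂ : Scheme.{u}} (b₂ : Y₂ ⟶ X₂) {v' : Y₂ ⟶ Y₁} {u' : X₂ ⟶ X₁} {v'' : Y₂ ⟶ Y₀}
    {u'' : X₂ ⟶ X₀} (hv : v' ≫ v = v'') (hu : u' ≫ u = u'') (w' : b₂ ≫ u' = v' ≫ b₁) (w'' : b₂ ≫ u'' = v'' ≫ b₀)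
    (a : A ⟶ (EtCoh.push u).obj B) {C : EtCoh.Ab X₂} (a' : B ⟶ (EtCoh.push u').obj C) :
    pullHat b₀ b₂ v'' u'' w'' (cmp u' u hu a a') =
      cmp v' v hv (pullHat b₀ b₁ v u w a) (pullHat b₁ b₂ v' u' w' a') := by
  refine cmp_un_injective v'' b₀ rfl ?_
  have k₁ : v' ≫ v ≫ b₀ = v'' ≫ b₀ := by rw [← Category.assoc, hv]
  have k₂ : (b₂ ≫ u') ≫ u = v'' ≫ b₀ := by rw [w', Category.assoc, w, ← Category.assoc, hv]
  have k₃ : v' ≫ (v ≫ b₀) = v'' ≫ b₀ := k₁
  rw [cmp_pullHat b₀ b₂ v'' u'' w'' _ rfl w'']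
  refine Eq.trans ?_ (cmp_assoc v' v b₀ hv rfl k₁ rfl _ _ _)
  rw [cmp_pullHat b₀ b₁ v u w a rfl w, cmp_assoc v' b₁ u w'.symm w k₁ k₂,
    cmp_pullHat b₁ b₂ v' u' w' a' w'.symm rfl, cmp_assoc b₂ u' u rfl hu w'' k₂]

end Hat

variable {I : Type u} [SmallCategory I] {D E : I ⥤ Scheme.{u}} (β : E ⟶ D)

theorem nat_w {i j : I} (g : j ⟶ i) : β.app j ≫ D.map g = E.map g ≫ β.app i := (β.naturality g).symm

/-- The inverse image of a system. -/
def pullNat (S : Sys D) : Sys E where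
  F i := (EtCoh.pull (β.app i)).obj (S.F i)
  ψ {i j} g := pullHat (β.app i) (β.app j) (E.map g) (D.map g) (nat_w β g) (S.ψ g)
  ψ_id i := by
    rw [S.ψ_id]
    exact pullHat_unit₀ _ _ _ (E.map_id i) (D.map_id i) _ _
  ψ_comp {i j k} h g := by
    rw [S.ψ_comp h g]
    exact pullHat_comp (β.app i) (β.app j) (E.map g) (D.map g) (nat_w β g) (β.app k) (map_w E h g) (map_w D h g)
      (nat_w β h) (nat_w β (h ≫ g)) (S.ψ g) (S.ψ h)

variable {c : Cone D} {e : Cone E} (p : e.pt ⟶ c.pt) (hp : ∀ i, p ≫ c.π.app i = e.π.app i ≫ β.app i) {S : Sys D}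

/-- The inverse image receives the inverse image system. -/
def pullCocn (L : Cocn S c) : Cocn (pullNat β S) e where
  M := (EtCoh.pull p).obj L.M
  a i := pullHat (β.app i) p (prj e i) (prj c i) (hp i) (L.a i)
  comm {i j} g := by
    rw [L.comm g]
    exact pullHat_comp (β.app i) (β.app j) (E.map g) (D.map g) (nat_w β g) p (prj_w e g) (prj_w c g)
      (hp j) (hp i) (S.ψ g) (L.a j)

/-- The diagram of the inverse image system. -/
def pullDiagIso : diag e (pullNat β S) ≅ diag c S ⋙ EtCoh.pull p :=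
  NatIso.ofComponents
    (fun i => @asIso _ _ _ _ (legMap (β.app i.unop) p (prj e i.unop) (prj c i.unop) (hp i.unop) (eta c S i.unop))
      (isIso_legMap_un _ _ _ _ _))
    fun {i j} g => by
      refine ((EtCoh.pullPushAdj (prj e i.unop)).homEquiv _ _).injective ?_
      refine (homEquiv_pullMap_comp e (pullNat β S) g.unop _).trans ?_
      refine Eq.trans ?_ ((EtCoh.pullPushAdj (prj e i.unop)).homEquiv_naturality_right _ _).symm
      refine Eq.trans ?_ (congrArg (· ≫ _) (Equiv.apply_symm_apply _ _)).symm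
      refine (congrArg (fun z => (pullNat β S).ψ g.unop ≫ (EtCoh.push (E.map g.unop)).map z ≫ _)
        (Equiv.apply_symm_apply _ _)).trans ?_
      refine Eq.trans ?_ (pullHat_post _ _ _ _ (hp i.unop) (eta c S i.unop) (pullMap c S g.unop))
      rw [eta_pullMap]
      exact (pullHat_comp (β.app i.unop) (β.app j.unop) (E.map g.unop) (D.map g.unop) (nat_w β g.unop) p
        (prj_w e g.unop) (prj_w c g.unop) (hp j.unop) (hp i.unop) (S.ψ g.unop) (eta c S j.unop)).symm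

theorem isIso_toLim_pullCocn (L : Cocn S c) [IsIso (toLim L)] : IsIso (toLim (pullCocn β p hp L)) := by
  haveI : IsIso ((colimit.isColimit (diag c S)).desc L.cocone) := inferInstanceAs (IsIso (toLim L))
  let hL : IsColimit L.cocone := IsColimit.ofPointIso (colimit.isColimit _)
  haveI := (EtCoh.pullPushAdj p).leftAdjoint_preservesColimits
  let ht := isColimitOfPreserves (EtCoh.pull p) hL
  let f := IsColimit.coconePointsIsoOfNatIso (colimit.isColimit (diag e (pullNat β S))) ht (pullDiagIso β p hp)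
  have key : toLim (pullCocn β p hp L) = f.hom := by
    refine colimit.hom_ext fun i => ?_
    obtain ⟨i⟩ := i
    refine (colimit.ι_desc (pullCocn β p hp L).cocone (op i)).trans ?_
    refine Eq.trans ?_ (IsColimit.comp_coconePointsIsoOfNatIso_hom
      (colimit.isColimit (diag e (pullNat β S))) ht (pullDiagIso β p hp) (op i)).symm
    refine Eq.trans ?_ (legMap_post (β.app i) p (prj e i) (prj c i) (hp i) (eta c S i) (L.cocone.ι.app (op i)))
    exact congrArg (legMap (β.app i) p (prj e i) (prj c i) (hp i)) (L.cocone_ι_eta i).symm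
  rw [key]
  infer_instance

theorem isLim_of_isIso_toLim [IsCofiltered I] [∀ (j k : I) (f : j ⟶ k), IsAffineHom (E.map f)]
    [∀ i, CompactSpace (E.obj i)] [∀ i, QuasiSeparatedSpace (E.obj i)] {S : Sys E} (he : IsLimit e) (L : Cocn S e)
    [IsIso (toLim L)] : L.IsLim := by
  haveI : IsIso ((colimit.isColimit (diag e S)).desc L.cocone) := inferInstanceAs (IsIso (toLim L))
  have h := isLim_ofCocone he L.cocone (IsColimit.ofPointIso (colimit.isColimit _))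
  have eq : Cocn.ofCocone L.cocone = L := by
    obtain ⟨M, a, comm⟩ := L
    simp [Cocn.ofCocone, Cocn.cocone]
    exact funext fun i => Equiv.apply_symm_apply _ _
  exact eq ▸ h

end Groth.L27.LimBC
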