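import Groth.Agent.L27.LimBC.RpushColim
import Groth.Agent.L27.LimBC.PullSys
import Groth.Prelude.Def_EtBC2

/-! # Base change commutes with limits of systems with quasi-compact quasi-separated stages -/

universe u

open CategoryTheory CategoryTheory.Limits AlgebraicGeometry Opposite

set_option backward.defeqAttrib.useBackward true
set_option backward.isDefEq.respectTransparency false
set_option backward.isDefEq.respectTransparency.types false
set_option linter.style.haveILetI false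
set_option linter.unusedSectionVars false

noncomputable section

namespace Groth.L27.LimBC

open Groth.L27.LimCoh

theorem un_bcQ {T' T S' S : Scheme.{u}} (g : T ⟶ S) (f : S' ⟶ S) (h : T' ⟶ S') (e : T' ⟶ T) (w : e ≫ g = h ≫ f)
    [PreservesFiniteLimits (EtCoh.pull e)] (q : ℕ) (F : EtCoh.Ab T) :
    un f _ ≫ (EtCoh.push f).map (EtBC.bcQ g f h e w q F) = Θ g f h e w q (un e F) :=
  ((EtCoh.pullPushAdj f).homEquiv_unit _ _ _).symm.trans
    ((Equiv.apply_symm_apply _ _).trans (bcQAdj_eq_Θ g f h e w q F))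

variable {I : Type u} [SmallCategory I] {X S T Y : I ⥤ Scheme.{u}} {fN : X ⟶ S} {gN : T ⟶ S} {hN : Y ⟶ X}
  {eN : Y ⟶ T} (w : ∀ i, eN.app i ≫ gN.app i = hN.app i ≫ fN.app i) (q : ℕ) (P : Sys T)
  [∀ i, PreservesFiniteLimits (EtCoh.pull (eN.app i))]

/-- The base change maps of the stages. -/
def stageBC : Sys.Hom (pullNat fN (rSys gN q P)) (rSys hN q (pullNat eN P)) where
  app i := EtBC.bcQ (gN.app i) (fN.app i) (hN.app i) (eN.app i) (w i) q (P.F i)
  comm {i j} g := by
    refine cmp_un_injective (X.map g) (fN.app i) rfl ?_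
    refine (cmp_mid (X.map g) (fN.app i) rfl (un (fN.app i) _) _ _).symm.trans ?_
    refine (congrArg (fun z => cmp (X.map g) (fN.app i) rfl z _) (un_bcQ _ _ _ _ (w i) q (P.F i))).trans ?_
    refine Eq.trans ?_ (cmp_post (X.map g) (fN.app i) rfl (un (fN.app i) _) _ _)
    refine Eq.trans ?_ (congrArg (· ≫ _) (cmp_pullHat (fN.app i) (fN.app j) (X.map g) (S.map g) (nat_w fN g)
      ((rSys gN q P).ψ g) rfl (nat_w fN g))).symm
    refine Eq.trans ?_ (cmp_post (fN.app j) (S.map g) (nat_w fN g) ((rSys gN q P).ψ g) (un (fN.app j) _) _).symm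
    refine Eq.trans ?_ (congrArg (fun z => cmp (fN.app j) (S.map g) (nat_w fN g) ((rSys gN q P).ψ g) z)
      (un_bcQ _ _ _ _ (w j) q (P.F j))).symm
    have w₃ : (Y.map g ≫ eN.app i) ≫ gN.app i = hN.app j ≫ X.map g ≫ fN.app i := by
      rw [Category.assoc, w i, ← Category.assoc, hN.naturality g, Category.assoc]
    refine (Θ_comp (gN.app i) (hN.app i) (hN.app j) (w i) (hN.naturality g) w₃ rfl rfl q (un (eN.app i) (P.F i))
      ((pullNat eN P).ψ g)).trans (Eq.trans ?_ (Θ_comp (gN.app i) (gN.app j) (hN.app j) (gN.naturality g) (w j) w₃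
      (nat_w fN g) (nat_w eN g) q (P.ψ g) (un (eN.app j) (P.F j))).symm)
    exact congrArg (Θ _ _ _ _ w₃ q) (cmp_pullHat (eN.app i) (eN.app j) (Y.map g) (T.map g) (nat_w eN g) (P.ψ g) rfl
      (nat_w eN g))

variable {cX : Cone X} {cS : Cone S} {cT : Cone T} {cY : Cone Y}
  {f : cX.pt ⟶ cS.pt} {g : cT.pt ⟶ cS.pt} {h : cY.pt ⟶ cX.pt} {e : cY.pt ⟶ cT.pt} [PreservesFiniteLimits (EtCoh.pull e)]
  (hf : ∀ i, f ≫ cS.π.app i = cX.π.app i ≫ fN.app i) (hg : ∀ i, g ≫ cS.π.app i = cT.π.app i ≫ gN.app i)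
  (hh : ∀ i, h ≫ cX.π.app i = cY.π.app i ≫ hN.app i) (he : ∀ i, e ≫ cT.π.app i = cY.π.app i ≫ eN.app i)
  (hw : e ≫ g = h ≫ f) {P}

theorem stageBC_leg (L : Cocn P cT) (i : I) :
    (pullCocn fN f hf (rCocn gN q g (fun i => (hg i).symm) L)).a i ≫
        (EtCoh.push (prj cX i)).map (EtBC.bcQ g f h e hw q L.M) =
      (stageBC w q P).app i ≫ (rCocn hN q h (fun i => (hh i).symm) (pullCocn eN e he L)).a i := by
  refine cmp_un_injective (prj cX i) (fN.app i) rfl ?_
  refine (cmp_post (prj cX i) (fN.app i) rfl (un (fN.app i) _) _ _).symm.trans ?_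
  refine (congrArg (· ≫ _) (cmp_pullHat (fN.app i) f (prj cX i) (prj cS i) (hf i)
    ((rCocn gN q g (fun i => (hg i).symm) L).a i) rfl (hf i))).trans ?_
  refine (cmp_post f (prj cS i) (hf i) ((rCocn gN q g (fun i => (hg i).symm) L).a i) (un f _) _).trans ?_
  refine (congrArg (fun z => cmp f (prj cS i) (hf i) ((rCocn gN q g (fun i => (hg i).symm) L).a i) z)
    (un_bcQ g f h e hw q L.M)).trans ?_
  refine Eq.trans ?_ (cmp_mid (prj cX i) (fN.app i) rfl (un (fN.app i) _) _ _)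
  refine Eq.trans ?_ (congrArg (fun z => cmp (prj cX i) (fN.app i) rfl z _)
    (un_bcQ _ _ _ _ (w i) q (P.F i))).symm
  have w₃ : (prj cY i ≫ eN.app i) ≫ gN.app i = h ≫ prj cX i ≫ fN.app i := by
    rw [Category.assoc, w i, ← Category.assoc, ← hh i, Category.assoc]
  refine (Θ_comp (gN.app i) g h (hg i).symm hw w₃ (hf i) (he i) q (L.a i) (un e L.M)).trans
    (Eq.trans ?_ (Θ_comp (gN.app i) (hN.app i) h (w i) (hh i).symm w₃ rfl rfl q (un (eN.app i) (P.F i))
      ((pullCocn eN e he L).a i)).symm)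
  exact congrArg (Θ _ _ _ _ w₃ q) (cmp_pullHat (eN.app i) e (prj cY i) (prj cT i) (he i) (L.a i) rfl (he i)).symm

variable [IsCofiltered I] [∀ i, QuasiCompact (gN.app i)] [∀ i, QuasiSeparated (gN.app i)]
  [∀ i, QuasiCompact (hN.app i)] [∀ i, QuasiSeparated (hN.app i)]
  [∀ (j k : I) (m : j ⟶ k), IsAffineHom (X.map m)] [∀ (j k : I) (m : j ⟶ k), IsAffineHom (S.map m)]
  [∀ (j k : I) (m : j ⟶ k), IsAffineHom (T.map m)] [∀ (j k : I) (m : j ⟶ k), IsAffineHom (Y.map m)]
  [∀ i, CompactSpace (X.obj i)] [∀ i, QuasiSeparatedSpace (X.obj i)]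
  [∀ i, CompactSpace (S.obj i)] [∀ i, QuasiSeparatedSpace (S.obj i)]
  [∀ i, CompactSpace (T.obj i)] [∀ i, QuasiSeparatedSpace (T.obj i)]
  [∀ i, CompactSpace (Y.obj i)] [∀ i, QuasiSeparatedSpace (Y.obj i)]
  [QuasiCompact g] [QuasiSeparated g] [QuasiCompact h] [QuasiSeparated h]

include w hf hg hh he in
theorem isIso_bcQ_sys (hX : IsLimit cX) (hS : IsLimit cS) (hT : IsLimit cT) (hY : IsLimit cY)
    (L : Cocn P cT) (hL : L.IsLim)
    (hstage : ∀ i, IsIso (EtBC.bcQ (gN.app i) (fN.app i) (hN.app i) (eN.app i) (w i) q (P.F i))) :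
    IsIso (EtBC.bcQ g f h e hw q L.M) := by
  let L₀ := rCocn gN q g (fun i => (hg i).symm) L
  let L₁ := pullCocn fN f hf L₀
  let L₂ := rCocn hN q h (fun i => (hh i).symm) (pullCocn eN e he L)
  haveI := isIso_toLim hT L hL
  haveI : IsIso (toLim L₀) := isIso_toLim_rCocn gN q g _ hT hS L hL
  haveI : IsIso (toLim L₁) := isIso_toLim_pullCocn fN f hf L₀
  haveI := isIso_toLim_pullCocn eN e he L
  haveI : IsIso (toLim L₂) := isIso_toLim_rCocn hN q h _ hY hX _ (isLim_of_isIso_toLim hY _)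
  haveI : ∀ i, IsIso ((diagMap (c := cX) (stageBC w q P)).app i) := fun i =>
    haveI : IsIso ((stageBC w q P).app i.unop) := hstage i.unop
    inferInstanceAs (IsIso ((EtCoh.pull (prj cX i.unop)).map ((stageBC w q P).app i.unop)))
  haveI : IsIso (diagMap (c := cX) (stageBC w q P)) := NatIso.isIso_of_isIso_app _
  haveI : IsIso (canonMap cX (stageBC w q P)) := by
    unfold canonMap
    infer_instance
  have key : toLim L₁ ≫ EtBC.bcQ g f h e hw q L.M = canonMap cX (stageBC w q P) ≫ toLim L₂ := by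
    refine colimit.hom_ext fun i => ?_
    obtain ⟨i⟩ := i
    refine (Category.assoc _ _ _).symm.trans ((congrArg (· ≫ _) (colimit.ι_desc L₁.cocone (op i))).trans ?_)
    refine Eq.trans ?_ ((congrArg (· ≫ toLim L₂) (ι_canonMap cX (stageBC w q P) i)).symm.trans
      (Category.assoc _ _ _))
    refine Eq.trans ?_ ((congrArg (_ ≫ ·) (colimit.ι_desc L₂.cocone (op i))).symm.trans
      (Category.assoc _ _ _).symm)
    refine ((EtCoh.pullPushAdj (prj cX i)).homEquiv_naturality_right_symm _ _).symm.trans ?_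
    exact (congrArg _ (stageBC_leg w q hf hg hh he hw L i)).trans
      ((EtCoh.pullPushAdj (prj cX i)).homEquiv_naturality_left_symm _ _)
  haveI : IsIso (toLim L₁ ≫ EtBC.bcQ g f h e hw q L.M) := by
    rw [key]
    infer_instance
  exact IsIso.of_isIso_comp_left (toLim L₁) _

end Groth.L27.LimBC
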