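import Groth.Agent.L27.LimBC.Restrict

/-! # Base change commutes with limits -/

universe u

open CategoryTheory CategoryTheory.Limits AlgebraicGeometry Opposite

set_option backward.defeqAttrib.useBackward true
set_option backward.isDefEq.respectTransparency false
set_option backward.isDefEq.respectTransparency.types false
set_option linter.style.haveILetI false
set_option linter.unusedSectionVars false

noncomputable section

namespace Groth.L27.LimBC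

open Groth.L27.LimCoh

theorem eq_inf_preimage {X T Y : Scheme.{u}} {e : Y ⟶ T} {h : Y ⟶ X} {UT : T.Opens} {U : X.Opens} {W : Y.Opens}
    (hle : W ≤ e ⁻¹ᵁ UT) (heq : W = h ⁻¹ᵁ U) : W = e ⁻¹ᵁ UT ⊓ h ⁻¹ᵁ U :=
  le_antisymm (le_inf hle heq.le) (inf_le_right.trans heq.ge)

theorem isPullback_ι_resLE {T S : Scheme.{u}} (g : T ⟶ S) {V : S.Opens} {W : T.Opens} (hW : W ≤ g ⁻¹ᵁ V)
    (heq : g ⁻¹ᵁ V = W) : IsPullback W.ι (g.resLE V W hW) g V.ι :=
  (IsOpenImmersion.isPullback _ _ _ _ (Scheme.Hom.resLE_comp_ι _ _).symm (by simp [heq])).flip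

theorem preimage_eq_of_comm {A B C D : Scheme.{u}} {a : A ⟶ B} {b : B ⟶ D} {a' : A ⟶ C} {b' : C ⟶ D}
    (w : a ≫ b = a' ≫ b') (W : D.Opens) : a' ⁻¹ᵁ (b' ⁻¹ᵁ W) = a ⁻¹ᵁ (b ⁻¹ᵁ W) := by
  rw [← Scheme.Hom.comp_preimage, ← Scheme.Hom.comp_preimage, w]

variable {I : Type u} [SmallCategory I] [IsCofiltered I] {X S T Y : I ⥤ Scheme.{u}} {fN : X ⟶ S} {gN : T ⟶ S}
  {hN : Y ⟶ X} {eN : Y ⟶ T} (sq : ∀ i, IsPullback (eN.app i) (hN.app i) (gN.app i) (fN.app i))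
  [∀ i, QuasiCompact (gN.app i)] [∀ i, QuasiSeparated (gN.app i)]
  [∀ (j k : I) (m : j ⟶ k), IsAffineHom (X.map m)] [∀ (j k : I) (m : j ⟶ k), IsAffineHom (S.map m)]
  [∀ (j k : I) (m : j ⟶ k), IsAffineHom (T.map m)] [∀ (j k : I) (m : j ⟶ k), IsAffineHom (Y.map m)]
  [∀ i, PreservesFiniteLimits (EtCoh.pull (eN.app i))]
  {cX : Cone X} {cS : Cone S} {cT : Cone T} {cY : Cone Y}
  {f : cX.pt ⟶ cS.pt} {g : cT.pt ⟶ cS.pt} {h : cY.pt ⟶ cX.pt} {e : cY.pt ⟶ cT.pt}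
  [PreservesFiniteLimits (EtCoh.pull e)]
  (hf : ∀ i, f ≫ cS.π.app i = cX.π.app i ≫ fN.app i) (hg : ∀ i, g ≫ cS.π.app i = cT.π.app i ≫ gN.app i)
  (hh : ∀ i, h ≫ cX.π.app i = cY.π.app i ≫ hN.app i) (he : ∀ i, e ≫ cT.π.app i = cY.π.app i ≫ eN.app i)
  (c : IsPullback e h g f) {P : Sys T} (q : ℕ)

include sq hf hg hh he in
/-- Base change commutes with limits of cartesian squares with affine transition morphisms. -/
theorem isIso_bcQ_limit (hX : IsLimit cX) (hS : IsLimit cS) (hT : IsLimit cT) (hY : IsLimit cY) (L : Cocn P cT)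
    [IsIso (toLim L)]
    (hstage : ∀ i, IsIso (EtBC.bcQ (gN.app i) (fN.app i) (hN.app i) (eN.app i) (sq i).w q (P.F i))) :
    IsIso (EtBC.bcQ g f h e c.w q L.M) := by
  obtain ⟨i⟩ := IsCofiltered.nonempty (C := I)
  have key : ∀ x : cX.pt, ∃ (U : (X.obj i).Opens) (V : (S.obj i).Opens), IsAffineOpen U ∧ IsAffineOpen V ∧
      cX.π.app i x ∈ U ∧ U ≤ fN.app i ⁻¹ᵁ V := by
    intro x
    obtain ⟨_, ⟨V, hV, rfl⟩, hxV, -⟩ := (S.obj i).isBasis_affineOpens.exists_subset_of_mem_open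
      (Set.mem_univ (fN.app i (cX.π.app i x))) isOpen_univ
    obtain ⟨_, ⟨U, hU, rfl⟩, hxU, hUV⟩ := (X.obj i).isBasis_affineOpens.exists_subset_of_mem_open
      (show cX.π.app i x ∈ (fN.app i ⁻¹ᵁ V : Set (X.obj i)) from hxV) (fN.app i ⁻¹ᵁ V).2
    exact ⟨U, V, hU, hV, hxU, hUV⟩
  choose U V hU hV hxU hUV using key
  refine L10.EtLocalBC.isIso_ab_of_covers
    (fun x : cX.pt => Scheme.Etale.mk (cX.π.app i ⁻¹ᵁ U x).ι) (fun x => ⟨x, ⟨x, hxU x⟩, rfl⟩) _ fun x => ?_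
  show IsIso ((EtCoh.pull (cX.π.app i ⁻¹ᵁ U x).ι).map _)
  let U₀ := U x
  let V₀ := V x
  let WT := gN.app i ⁻¹ᵁ V₀
  let WY := hN.app i ⁻¹ᵁ U₀
  have hUV' : U₀ ≤ fN.app i ⁻¹ᵁ V₀ := hUV x
  have hWY : WY ≤ eN.app i ⁻¹ᵁ WT := by
    show hN.app i ⁻¹ᵁ U₀ ≤ eN.app i ⁻¹ᵁ (gN.app i ⁻¹ᵁ V₀)
    rw [← Scheme.Hom.comp_preimage, (sq i).w, Scheme.Hom.comp_preimage]
    exact (hN.app i).preimage_mono hUV'
  let fN' := opensNat fN U₀ V₀ hUV'
  let gN' := opensNat gN WT V₀ le_rfl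
  let hN' := opensNat hN WY U₀ le_rfl
  let eN' := opensNat eN WY WT hWY
  have eT : ∀ j : Over i, gN.app j.left ⁻¹ᵁ (S.map j.hom ⁻¹ᵁ V₀) = T.map j.hom ⁻¹ᵁ WT := fun j => by
    show _ = T.map j.hom ⁻¹ᵁ (gN.app i ⁻¹ᵁ V₀)
    rw [← Scheme.Hom.comp_preimage, ← Scheme.Hom.comp_preimage, gN.naturality]
  have eY : ∀ j : Over i, Y.map j.hom ⁻¹ᵁ WY = hN.app j.left ⁻¹ᵁ (X.map j.hom ⁻¹ᵁ U₀) := fun j => by
    show Y.map j.hom ⁻¹ᵁ (hN.app i ⁻¹ᵁ U₀) = _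
    rw [← Scheme.Hom.comp_preimage, ← Scheme.Hom.comp_preimage, hN.naturality]
  have sq' : ∀ j, IsPullback (eN'.app j) (hN'.app j) (gN'.app j) (fN'.app j) := fun j =>
    Scheme.Hom.isPullback_resLE (sq j.left) (opens_le fN U₀ V₀ hUV' j) (opens_le gN WT V₀ le_rfl j)
      (eq_inf_preimage (opens_le eN WY WT hWY j) (eY j))
  have sT : ∀ j : Over i, IsPullback (T.map j.hom ⁻¹ᵁ WT).ι (gN'.app j) (gN.app j.left) (S.map j.hom ⁻¹ᵁ V₀).ι :=
    fun j => isPullback_ι_resLE _ _ (eT j)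
  haveI : ∀ j, PreservesFiniteLimits (EtCoh.pull (eN'.app j)) := fun j => EtSite.preservesFiniteLimits_pull _
  haveI : ∀ j, QuasiCompact (gN'.app j) := fun j =>
    MorphismProperty.of_isPullback (P := @QuasiCompact) (sT j) inferInstance
  haveI : ∀ j, QuasiSeparated (gN'.app j) := fun j =>
    MorphismProperty.of_isPullback (P := @QuasiSeparated) (sT j) inferInstance
  haveI : ∀ j, QuasiCompact (hN'.app j) := fun j =>
    MorphismProperty.of_isPullback (P := @QuasiCompact) (sq' j) inferInstance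
  haveI : ∀ j, QuasiSeparated (hN'.app j) := fun j =>
    MorphismProperty.of_isPullback (P := @QuasiSeparated) (sq' j) inferInstance
  have hstage' : ∀ j, IsIso (EtBC.bcQ (gN'.app j) (fN'.app j) (hN'.app j) (eN'.app j) (sq' j).w q
      ((resSysOpens WT P).F j)) := fun j =>
    isIso_bcQ_restrict (sq j.left) (P.F j.left) q (X.map j.hom ⁻¹ᵁ U₀).ι (S.map j.hom ⁻¹ᵁ V₀).ι (fN'.app j)
      (opensNat_ι fN U₀ V₀ hUV' j) (T.map j.hom ⁻¹ᵁ WT).ι (gN'.app j) (sT j) (hN'.app j) (eN'.app j) (sq' j)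
      (hstage j.left)
  haveI : ∀ j, IsAffine ((opensDiagram X i U₀).obj j) := fun j => (hU x).preimage (X.map j.hom)
  haveI : ∀ j, IsAffine ((opensDiagram S i V₀).obj j) := fun j => (hV x).preimage (S.map j.hom)
  haveI : ∀ j, CompactSpace ((opensDiagram X i U₀).obj j) := fun j => inferInstance
  haveI : ∀ j, QuasiSeparatedSpace ((opensDiagram X i U₀).obj j) := fun j => inferInstance
  haveI : ∀ j, CompactSpace ((opensDiagram S i V₀).obj j) := fun j => inferInstance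
  haveI : ∀ j, QuasiSeparatedSpace ((opensDiagram S i V₀).obj j) := fun j => inferInstance
  haveI : ∀ j, CompactSpace ((opensDiagram T i WT).obj j) := fun j =>
    QuasiCompact.compactSpace_of_compactSpace (gN'.app j)
  haveI : ∀ j, QuasiSeparatedSpace ((opensDiagram T i WT).obj j) := fun j =>
    quasiSeparatedSpace_of_quasiSeparated (gN'.app j)
  haveI : ∀ j, CompactSpace ((opensDiagram Y i WY).obj j) := fun j =>
    QuasiCompact.compactSpace_of_compactSpace (hN'.app j)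
  haveI : ∀ j, QuasiSeparatedSpace ((opensDiagram Y i WY).obj j) := fun j =>
    quasiSeparatedSpace_of_quasiSeparated (hN'.app j)
  -- the limit squares
  have lT : g ⁻¹ᵁ (cS.π.app i ⁻¹ᵁ V₀) = cT.π.app i ⁻¹ᵁ WT := by
    show _ = cT.π.app i ⁻¹ᵁ (gN.app i ⁻¹ᵁ V₀)
    rw [← Scheme.Hom.comp_preimage, hg i, Scheme.Hom.comp_preimage]
  have lY : cY.π.app i ⁻¹ᵁ WY = h ⁻¹ᵁ (cX.π.app i ⁻¹ᵁ U₀) := by
    show cY.π.app i ⁻¹ᵁ (hN.app i ⁻¹ᵁ U₀) = _
    rw [← Scheme.Hom.comp_preimage, ← hh i, Scheme.Hom.comp_preimage]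
  have lf : cX.π.app i ⁻¹ᵁ U₀ ≤ f ⁻¹ᵁ (cS.π.app i ⁻¹ᵁ V₀) := by
    rw [← Scheme.Hom.comp_preimage, hf i, Scheme.Hom.comp_preimage]
    exact (cX.π.app i).preimage_mono hUV'
  have le : cY.π.app i ⁻¹ᵁ WY ≤ e ⁻¹ᵁ (cT.π.app i ⁻¹ᵁ WT) := by
    have eq : cY.π.app i ⁻¹ᵁ (eN.app i ⁻¹ᵁ WT) = e ⁻¹ᵁ (cT.π.app i ⁻¹ᵁ WT) := preimage_eq_of_comm (he i) WT
    exact ((cY.π.app i).preimage_mono hWY).trans eq.le
  let f' : (opensCone X cX i U₀).pt ⟶ (opensCone S cS i V₀).pt := f.resLE _ _ lf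
  let g' : (opensCone T cT i WT).pt ⟶ (opensCone S cS i V₀).pt := g.resLE _ _ lT.ge
  let h' : (opensCone Y cY i WY).pt ⟶ (opensCone X cX i U₀).pt := h.resLE _ _ lY.le
  let e' : (opensCone Y cY i WY).pt ⟶ (opensCone T cT i WT).pt := e.resLE _ _ le
  haveI := EtSite.preservesFiniteLimits_pull e'
  have hX' := isLimitOpensCone X cX hX i U₀
  have hS' := isLimitOpensCone S cS hS i V₀
  obtain ⟨_, _⟩ := qcqs_pt hX'
  obtain ⟨_, _⟩ := qcqs_pt hS'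
  obtain ⟨_, _⟩ := qcqs_pt (isLimitOpensCone T cT hT i WT)
  obtain ⟨_, _⟩ := qcqs_pt (isLimitOpensCone Y cY hY i WY)
  haveI : QuasiCompact g' := quasiCompact_of_compactSpace g'
  haveI : QuasiCompact h' := quasiCompact_of_compactSpace h'
  haveI : QuasiSeparated g' := QuasiSeparated.of_quasiSeparatedSpace g'
  haveI : QuasiSeparated h' := QuasiSeparated.of_quasiSeparatedSpace h'
  have hloc : IsPullback e' h' g' f' :=
    Scheme.Hom.isPullback_resLE c lf lT.ge (eq_inf_preimage le lY)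
  have res : ∀ {D E : I ⥤ Scheme.{u}} {β : E ⟶ D} {cE : Cone E} {cD : Cone D} {b : cE.pt ⟶ cD.pt}
      (_ : ∀ k, b ≫ cD.π.app k = cE.π.app k ≫ β.app k) (W : (E.obj i).Opens) (U' : (D.obj i).Opens)
      (hW : W ≤ β.app i ⁻¹ᵁ U') (hl : cE.π.app i ⁻¹ᵁ W ≤ b ⁻¹ᵁ (cD.π.app i ⁻¹ᵁ U')) (j : Over i),
      b.resLE _ _ hl ≫ (opensCone D cD i U').π.app j = (opensCone E cE i W).π.app j ≫ (opensNat β W U' hW).app j := by
    intro D E β cE cD b hb W U' hW hl j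
    refine (cancel_mono (D.map j.hom ⁻¹ᵁ U').ι).1 ?_
    refine (Category.assoc _ _ _).trans ((congrArg (_ ≫ ·) (Scheme.Hom.resLE_comp_ι _ _)).trans ?_)
    refine Eq.trans ?_ (Category.assoc _ _ _).symm
    refine Eq.trans ?_ (congrArg (_ ≫ ·) (opensNat_ι β W U' hW j)).symm
    refine (Category.assoc _ _ _).symm.trans ((congrArg (· ≫ _) (Scheme.Hom.resLE_comp_ι _ _)).trans ?_)
    refine Eq.trans ?_ (Category.assoc _ _ _)
    refine Eq.trans ?_ (congrArg (· ≫ β.app j.left) (Scheme.Hom.resLE_comp_ι _ _)).symm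
    exact (Category.assoc _ _ _).trans ((congrArg (_ ≫ ·) (hb j.left)).trans (Category.assoc _ _ _).symm)
  have main := isIso_bcQ_sys (fN := fN') (gN := gN') (hN := hN') (eN := eN') (fun j => (sq' j).w) q
    (f := f') (g := g') (h := h') (e := e') (res hf U₀ V₀ hUV' lf) (res hg WT V₀ le_rfl lT.ge)
    (res hh WY U₀ le_rfl lY.le) (res he WY WT hWY le) hloc.w hX' hS'
    (isLimitOpensCone T cT hT i WT) (isLimitOpensCone Y cY hY i WY) (resCocnOpens WT L)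
    (isLim_resCocnOpens WT hT L) hstage'
  haveI := EtSite.preservesFiniteLimits_pull (e.resLE _ _ le)
  exact L10.EtLocalBC.isIso_pull_map_bcQ g h f e c L.M q (cX.π.app i ⁻¹ᵁ U₀).ι (cS.π.app i ⁻¹ᵁ V₀).ι (f.resLE _ _ lf)
    (Scheme.Hom.resLE_comp_ι _ _) (cT.π.app i ⁻¹ᵁ WT).ι (g.resLE _ _ lT.ge) (isPullback_ι_resLE g lT.ge lT) (h.resLE _ _ lY.le)
    (e.resLE _ _ le) hloc main

end Groth.L27.LimBC
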