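import Groth.Agent.L27.LimBC.PushNat
import Groth.Agent.L27.LimCoh.Main

/-! # Direct images commute with limits of systems along quasi-compact quasi-separated morphisms -/

universe u

open CategoryTheory CategoryTheory.Limits AlgebraicGeometry Opposite

set_option backward.isDefEq.respectTransparency.types false
set_option linter.style.haveILetI false
set_option linter.unusedSectionVars false
set_option linter.unusedVariables false

noncomputable section

namespace Groth.L27.LimBC

open Groth.L27.LimCoh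

section Square

variable {T T' S S' : Scheme.{u}} (f : T ⟶ S) (g : S' ⟶ S) (f' : T' ⟶ S') (g' : T' ⟶ T)
  (w : g' ≫ f = f' ≫ g)

/-- The comparison of the two base changes of a square. -/
def flipHom (V : S.Etale) : (EtCoh.bc f').obj ((EtCoh.bc g).obj V) ⟶ (EtCoh.bc g').obj ((EtCoh.bc f).obj V) :=
  lift g' (sqr f g f' g' w V) (sqr_w f g f' g' w V)

theorem flipHom_fst (V : S.Etale) :
    (flipHom f g f' g' w V).left ≫ fstB g' ((EtCoh.bc f).obj V) = sqr f g f' g' w V :=
  lift_fstB g' _ _

theorem flipHom_inv (V : S.Etale) : flipHom f g f' g' w V ≫ flipHom g f g' f' w.symm V = 𝟙 _ := by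
  let F := flipHom f g f' g' w V
  let G := flipHom g f g' f' w.symm V
  refine bc_hom_ext f' ?_
  refine (Category.assoc _ _ _).trans ((congrArg (F.left ≫ ·) (flipHom_fst g f g' f' w.symm V)).trans ?_)
  refine Eq.trans ?_ (Category.id_comp _).symm
  refine pullback.hom_ext ?_ ?_
  · refine (Category.assoc _ _ _).trans ((congrArg (F.left ≫ ·) (sqr_fstB g f g' f' w.symm V)).trans ?_)
    refine (Category.assoc _ _ _).symm.trans ((congrArg (· ≫ fstB f V) (flipHom_fst f g f' g' w V)).trans ?_)
    exact sqr_fstB f g f' g' w V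
  · refine (Category.assoc _ _ _).trans ((congrArg (F.left ≫ ·) (sqr_w g f g' f' w.symm V)).trans ?_)
    exact (Category.assoc _ _ _).symm.trans ((congrArg (· ≫ f') (MorphismProperty.Over.w F)).trans
      (fstB_w f' ((EtCoh.bc g).obj V)).symm)

theorem map_flipHom_injective (M : EtCoh.Ab T') (V : S.Etale) :
    Function.Injective (M.obj.map (flipHom f g f' g' w V).op) :=
  map_iso_injective M ⟨flipHom f g f' g' w V, flipHom g f g' f' w.symm V, flipHom_inv f g f' g' w V,
    flipHom_inv g f g' f' w.symm V⟩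

end Square

variable {I : Type u} [SmallCategory I] {D D' : I ⥤ Scheme.{u}} (α : D ⟶ D') {c : Cone D} {c' : Cone D'}
  (p : c.pt ⟶ c'.pt) (hp : ∀ i, c.π.app i ≫ α.app i = p ≫ c'.π.app i)

theorem pushNatCocn_a {S : Sys D} (L : Cocn S c) (i : I) (V : (D'.obj i).Etale)
    (s : ((pushNat α S).F i).obj.obj (op V)) :
    ((pushNatCocn α p hp L).a i).hom.app (op V) s =
      L.M.obj.map (flipHom (α.app i) (prj c' i) p (prj c i) (hp i) V).op
        ((L.a i).hom.app (op ((EtCoh.bc (α.app i)).obj V)) s) :=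
  pushSq_app (α.app i) (prj c' i) p (prj c i) (hp i) (L.a i) V s _ (sqr_w _ _ _ _ (hp i) V)
    (sqr_fstB _ _ _ _ (hp i) V)

theorem qcqs_bc' {X Y : Scheme.{u}} (f : X ⟶ Y) [QuasiCompact f] [QuasiSeparated f] (V : Y.Etale)
    (h1 : CompactSpace V.left) (h2 : QuasiSeparatedSpace V.left) :
    CompactSpace ((EtCoh.bc f).obj V).left ∧ QuasiSeparatedSpace ((EtCoh.bc f).obj V).left := by
  haveI : CompactSpace ↥((𝟭 Scheme.{u}).obj V.left) := h1
  haveI : QuasiSeparatedSpace ↥((𝟭 Scheme.{u}).obj V.left) := h2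
  exact ⟨QuasiCompact.compactSpace_of_compactSpace (X := pullback V.hom f) (pullback.fst V.hom f),
    quasiSeparatedSpace_of_quasiSeparated (X := pullback V.hom f) (pullback.fst V.hom f)⟩

theorem res_fst {S : Sys D} {i j : I} (g : j ⟶ i) (V : (D.obj i).Etale) (s : (S.F i).obj.obj (op V)) :
    S.res g (fstB (D.map g) V) (fstB_w (D.map g) V) s = (S.ψ g).hom.app (op V) s := by
  rw [S.res_apply]
  refine Eq.trans ?_ (congr($((S.F j).obj.map_id _) ((S.ψ g).hom.app (op V) s)))
  exact congrArg (fun l => (S.F j).obj.map (Quiver.Hom.op l) ((S.ψ g).hom.app (op V) s))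
    (bc_hom_ext _ ((lift_fstB _ _ _).trans (Category.id_comp _).symm))

variable [∀ i, QuasiCompact (α.app i)] [∀ i, QuasiSeparated (α.app i)]

theorem isLim_pushNatCocn {S : Sys D} (L : Cocn S c) (hL : L.IsLim) : (pushNatCocn α p hp L).IsLim where
  rep i V h1 h2 x := by
    let W := (EtCoh.bc (α.app i)).obj V
    obtain ⟨j, g, y, hy⟩ := hL.rep i W (qcqs_bc' (α.app i) V h1 h2).1 (qcqs_bc' (α.app i) V h1 h2).2
      (L.M.obj.map (flipHom (prj c' i) (α.app i) (prj c i) p (hp i).symm V).op x)
    let Vj := (EtCoh.bc (D'.map g)).obj V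
    let rg := sqr (α.app i) (D'.map g) (α.app j) (D.map g) (α.naturality g) V
    let lg := flipHom (α.app i) (D'.map g) (α.app j) (D.map g) (α.naturality g) V
    refine ⟨j, g, (S.F j).obj.map lg.op y, ?_⟩
    refine (pushNatCocn_a α p hp L j Vj _).trans ?_
    refine (congrArg (L.M.obj.map _) ((NatTrans.naturality_apply (L.a j).hom lg.op y).trans
      (congrArg _ hy))).trans ?_
    refine (congrArg (L.M.obj.map _) (congrArg _ (Functor.map_comp_apply L.M.obj _ _ _).symm)).trans ?_
    refine (congrArg (L.M.obj.map _) (Functor.map_comp_apply L.M.obj _ _ _).symm).trans ?_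
    refine (Functor.map_comp_apply L.M.obj _ _ _).symm.trans ?_
    refine congrArg (fun l => L.M.obj.map (Quiver.Hom.op l) x) ?_
    let Φj := flipHom (α.app j) (prj c' j) p (prj c j) (hp j) Vj
    let Φi := flipHom (α.app i) (prj c' i) p (prj c i) (hp i) V
    let n := (EtCoh.bc p).map (tr c' g V)
    have e : Φj ≫ (EtCoh.bc (prj c j)).map lg ≫ tr c g W = n ≫ Φi := by
      refine bc_hom_ext (prj c i) ?_
      have e1 : ((EtCoh.bc (prj c j)).map lg ≫ tr c g W).left ≫ fstB (prj c i) W =
          fstB (prj c j) _ ≫ rg := by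
        refine (Category.assoc _ _ _).trans ((congrArg (_ ≫ ·) (split_fstB _ _ (prj_w c g) W)).trans ?_)
        exact fstB_chain (prj c j) lg (flipHom_fst _ _ _ _ _ V)
      refine (Category.assoc _ _ _).trans ((congrArg (Φj.left ≫ ·) e1).trans ?_)
      refine (Category.assoc _ _ _).symm.trans ((congrArg (· ≫ rg) (flipHom_fst _ _ _ _ _ Vj)).trans ?_)
      refine Eq.trans ?_ (Category.assoc _ _ _).symm
      refine Eq.trans ?_ (congrArg (n.left ≫ ·) (flipHom_fst _ _ _ _ _ V)).symm
      refine pullback.hom_ext ?_ ?_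
      · refine (Category.assoc _ _ _).trans ((congrArg (_ ≫ ·) (sqr_fstB _ _ _ _ _ V)).trans ?_)
        refine ((Category.assoc _ _ _).symm.trans (congrArg (· ≫ fstB (D'.map g) V) (sqr_fstB _ _ _ _ _ Vj))).trans ?_
        refine Eq.trans ?_ (Category.assoc _ _ _).symm
        refine Eq.trans ?_ (congrArg (n.left ≫ ·) (sqr_fstB _ _ _ _ _ V)).symm
        refine Eq.trans ?_ (fstB_chain p (tr c' g V) (split_fstB _ _ (prj_w c' g) V)).symm
        exact Category.assoc _ _ _
      · refine (Category.assoc _ _ _).trans ((congrArg (_ ≫ ·) (sqr_w _ _ _ _ _ V)).trans ?_)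
        refine ((Category.assoc _ _ _).symm.trans (congrArg (· ≫ D.map g) (sqr_w _ _ _ _ _ Vj))).trans ?_
        refine Eq.trans ?_ (overLeft_w n (sqr_w _ _ _ _ _ V)).symm
        exact (Category.assoc _ _ _).trans (congrArg (_ ≫ ·) (prj_w c g))
    show Φj ≫ ((EtCoh.bc (prj c j)).map lg ≫ tr c g W ≫ flipHom (prj c' i) (α.app i) (prj c i) p _ V) = n
    rw [← Category.assoc ((EtCoh.bc (prj c j)).map lg), ← Category.assoc Φj, e, Category.assoc, flipHom_inv,
      Category.comp_id]
  zero i V h1 h2 s hs := by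
    let W := (EtCoh.bc (α.app i)).obj V
    have h0 : (L.a i).hom.app (op W) s = 0 := map_flipHom_injective _ _ _ _ _ _ V
      (((pushNatCocn_a α p hp L i V s).symm.trans hs).trans (map_zero _).symm)
    obtain ⟨j, g, hj⟩ := hL.zero i W (qcqs_bc' (α.app i) V h1 h2).1 (qcqs_bc' (α.app i) V h1 h2).2 s h0
    refine ⟨j, g, ?_⟩
    refine (res_fst (S := pushNat α S) g V s).trans ?_
    refine (pushψ_app α S g V s (sqr (α.app i) (D'.map g) (α.app j) (D.map g) (α.naturality g) V)
      (sqr_w _ _ _ _ _ V) (sqr_fstB _ _ _ _ _ V)).trans ?_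
    refine (S.map_res g (fstB (D.map g) W) (fstB_w (D.map g) W)
      (flipHom (α.app i) (D'.map g) (α.app j) (D.map g) (α.naturality g) V) _ _ (flipHom_fst _ _ _ _ _ V) s).symm.trans ?_
    exact (congrArg _ hj).trans (map_zero _)

end Groth.L27.LimBC
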