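import Groth.Agent.L27.LimCoh.CanonLim
import Groth.Agent.L27.LimCoh.PushSys

/-! # Direct images of systems of sheaves along a morphism of diagrams of schemes -/

universe u

open CategoryTheory CategoryTheory.Limits AlgebraicGeometry Opposite

set_option backward.isDefEq.respectTransparency.types false
set_option linter.style.haveILetI false
set_option linter.unusedSectionVars false
set_option linter.unusedVariables false

noncomputable section

namespace Groth.L27.LimBC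

open Groth.L27.LimCoh

theorem overLeft_w {Y : Scheme.{u}} {T U : Y.Etale} (a : T ⟶ U) {W Q : Scheme.{u}} {r : U.left ⟶ W} {q : W ⟶ Q}
    {u : Y ⟶ Q} (hr : r ≫ q = U.hom ≫ u) : (a.left ≫ r) ≫ q = T.hom ≫ u :=
  (Category.assoc _ _ _).trans ((congrArg (a.left ≫ ·) hr).trans
    ((Category.assoc _ _ _).symm.trans (congrArg (· ≫ u) (MorphismProperty.Over.w a))))

theorem fstB_chain {X Y : Scheme.{u}} (f : X ⟶ Y) {U V : Y.Etale} (J : U ⟶ V) {W : Scheme.{u}} {x : V.left ⟶ W}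
    {y : U.left ⟶ W} (h : J.left ≫ x = y) :
    ((EtCoh.bc f).map J).left ≫ fstB f V ≫ x = fstB f U ≫ y :=
  (Category.assoc _ _ _).symm.trans ((congrArg (· ≫ x) (fstB_nat f J)).trans
    ((Category.assoc _ _ _).trans (congrArg (_ ≫ ·) h)))

section Square

variable {T T' S S' : Scheme.{u}} (f : T ⟶ S) (g : S' ⟶ S) (f' : T' ⟶ S') (g' : T' ⟶ T)
  (w : g' ≫ f = f' ≫ g)

/-- The morphism induced on direct images by a commutative square. -/
def pushSq {A : EtCoh.Ab T} {B : EtCoh.Ab T'} (a : A ⟶ (EtCoh.push g').obj B) :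
    (EtCoh.push f).obj A ⟶ (EtCoh.push g).obj ((EtCoh.push f').obj B) :=
  (EtCoh.push f).map a ≫ pushJoin g' f rfl B ≫ pushSplit f' g w.symm B

theorem pushSq_app {A : EtCoh.Ab T} {B : EtCoh.Ab T'} (a : A ⟶ (EtCoh.push g').obj B) (V : S.Etale)
    (s : A.obj.obj (op ((EtCoh.bc f).obj V)))
    (r : ((EtCoh.bc f').obj ((EtCoh.bc g).obj V)).left ⟶ ((EtCoh.bc f).obj V).left)
    (h : r ≫ ((EtCoh.bc f).obj V).hom = ((EtCoh.bc f').obj ((EtCoh.bc g).obj V)).hom ≫ g')
    (hr : r ≫ fstB f V = fstB f' ((EtCoh.bc g).obj V) ≫ fstB g V) :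
    (pushSq f g f' g' w a).hom.app (op V) s =
      B.obj.map (lift g' r h).op (a.hom.app (op ((EtCoh.bc f).obj V)) s) := by
  refine Eq.trans ?_ ((congrArg (fun l => B.obj.map (Quiver.Hom.op l) (a.hom.app _ s))
    (eq_comp_join g' f rfl (lift g' r h) ((split f' g w.symm).app V) ?_)).symm)
  · exact (Functor.map_comp_apply B.obj _ _ _).symm
  · refine (Category.assoc _ _ _).symm.trans ((congrArg (· ≫ fstB f V) (lift_fstB g' r h)).trans ?_)
    exact hr.trans (split_fstB f' g w.symm V).symm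

theorem pushSq_post {A : EtCoh.Ab T} {B B' : EtCoh.Ab T'} (a : A ⟶ (EtCoh.push g').obj B) (φ : B ⟶ B') :
    pushSq f g f' g' w (a ≫ (EtCoh.push g').map φ) =
      pushSq f g f' g' w a ≫ (EtCoh.push g).map ((EtCoh.push f').map φ) := by
  simp only [pushSq, Functor.map_comp, Category.assoc]
  rw [← pushSplit_naturality, ← reassoc_of% (pushJoin_naturality g' f rfl φ)]

theorem pushSq_pre {A A' : EtCoh.Ab T} {B : EtCoh.Ab T'} (φ : A' ⟶ A) (a : A ⟶ (EtCoh.push g').obj B) :
    pushSq f g f' g' w (φ ≫ a) = (EtCoh.push f).map φ ≫ pushSq f g f' g' w a := by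
  simp only [pushSq, Functor.map_comp, Category.assoc]

/-- The lift between the two base changes of a square. -/
def sqr (V : S.Etale) : ((EtCoh.bc f').obj ((EtCoh.bc g).obj V)).left ⟶ ((EtCoh.bc f).obj V).left :=
  pullback.lift (fstB f' ((EtCoh.bc g).obj V) ≫ fstB g V) (((EtCoh.bc f').obj ((EtCoh.bc g).obj V)).hom ≫ g') (by
    show (_ ≫ fstB g V) ≫ V.hom = (_ ≫ g') ≫ f
    rw [Category.assoc, fstB_w, Category.assoc, w, ← Category.assoc, fstB_w, Category.assoc])

theorem sqr_fstB (V : S.Etale) : sqr f g f' g' w V ≫ fstB f V = fstB f' ((EtCoh.bc g).obj V) ≫ fstB g V :=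
  pullback.lift_fst _ _ _

theorem sqr_w (V : S.Etale) :
    sqr f g f' g' w V ≫ ((EtCoh.bc f).obj V).hom = ((EtCoh.bc f').obj ((EtCoh.bc g).obj V)).hom ≫ g' :=
  pullback.lift_snd _ _ _

theorem sqr_eq {V : S.Etale} {r : ((EtCoh.bc f').obj ((EtCoh.bc g).obj V)).left ⟶ ((EtCoh.bc f).obj V).left}
    (h : r ≫ ((EtCoh.bc f).obj V).hom = ((EtCoh.bc f').obj ((EtCoh.bc g).obj V)).hom ≫ g')
    (hr : r ≫ fstB f V = fstB f' ((EtCoh.bc g).obj V) ≫ fstB g V) : sqr f g f' g' w V = r :=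
  pullback.hom_ext ((sqr_fstB f g f' g' w V).trans hr.symm) ((sqr_w f g f' g' w V).trans h.symm)

end Square

variable {I : Type u} [SmallCategory I] {D D' : I ⥤ Scheme.{u}} (α : D ⟶ D')

/-- The transition maps of the direct image system. -/
def pushψ (S : Sys D) {i j : I} (g : j ⟶ i) : (EtCoh.push (α.app i)).obj (S.F i) ⟶
    (EtCoh.push (D'.map g)).obj ((EtCoh.push (α.app j)).obj (S.F j)) :=
  pushSq (α.app i) (D'.map g) (α.app j) (D.map g) (α.naturality g) (S.ψ g)

theorem pushψ_app (S : Sys D) {i j : I} (g : j ⟶ i) (V : (D'.obj i).Etale)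
    (s : (S.F i).obj.obj (op ((EtCoh.bc (α.app i)).obj V)))
    (r : ((EtCoh.bc (α.app j)).obj ((EtCoh.bc (D'.map g)).obj V)).left ⟶ ((EtCoh.bc (α.app i)).obj V).left)
    (h : r ≫ ((EtCoh.bc (α.app i)).obj V).hom = ((EtCoh.bc (α.app j)).obj ((EtCoh.bc (D'.map g)).obj V)).hom ≫ D.map g)
    (hr : r ≫ fstB (α.app i) V = fstB (α.app j) ((EtCoh.bc (D'.map g)).obj V) ≫ fstB (D'.map g) V) :
    (pushψ α S g).hom.app (op V) s = S.res g r h s :=
  pushSq_app _ _ _ _ _ _ V s r h hr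

/-- The direct image of a system. -/
def pushNat (S : Sys D) : Sys D' where
  F i := (EtCoh.push (α.app i)).obj (S.F i)
  ψ g := pushψ α S g
  ψ_id i := by
    refine sheafHom_ext fun V s => ?_
    let m := (EtCoh.bc (α.app i)).map ((unit₀ (D'.map (𝟙 i)) (D'.map_id i)).app V)
    have hm : m.left ≫ ((EtCoh.bc (α.app i)).obj V).hom =
        ((EtCoh.bc (α.app i)).obj ((EtCoh.bc (D'.map (𝟙 i))).obj V)).hom ≫ D.map (𝟙 i) :=
      (MorphismProperty.Over.w m).trans ((Category.comp_id _).symm.trans (congrArg (_ ≫ ·) (D.map_id i).symm))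
    refine (pushψ_app α S (𝟙 i) V s m.left hm (fstB_nat (α.app i) _)).trans ?_
    exact S.res_id m hm s
  ψ_comp {i j k} h g := by
    refine sheafHom_ext fun V s => ?_
    let Vj := (EtCoh.bc (D'.map g)).obj V
    let Vk := (EtCoh.bc (D'.map h)).obj Vj
    let rg := sqr (α.app i) (D'.map g) (α.app j) (D.map g) (α.naturality g) V
    let rh := sqr (α.app j) (D'.map h) (α.app k) (D.map h) (α.naturality h) Vj
    let m := (EtCoh.bc (α.app k)).map ((join (D'.map h) (D'.map g) (map_w D' h g)).app V)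
    have h₃ : (rh ≫ rg) ≫ ((EtCoh.bc (α.app i)).obj V).hom =
        ((EtCoh.bc (α.app k)).obj Vk).hom ≫ D.map (h ≫ g) := by
      rw [Category.assoc, sqr_w, ← Category.assoc, sqr_w, Category.assoc, D.map_comp]
    have h₄ : (m.left ≫ rh ≫ rg) ≫ ((EtCoh.bc (α.app i)).obj V).hom =
        ((EtCoh.bc (α.app k)).obj ((EtCoh.bc (D'.map (h ≫ g))).obj V)).hom ≫ D.map (h ≫ g) :=
      overLeft_w m h₃
    have hr : (m.left ≫ rh ≫ rg) ≫ fstB (α.app i) V =
        fstB (α.app k) ((EtCoh.bc (D'.map (h ≫ g))).obj V) ≫ fstB (D'.map (h ≫ g)) V := by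
      rw [Category.assoc, Category.assoc, sqr_fstB, ← Category.assoc rh, sqr_fstB, Category.assoc]
      refine fstB_chain (α.app k) _ ?_
      exact (Category.assoc _ _ _).symm.trans ((congrArg (· ≫ fstB (D'.map g) V)
        (join_fstB _ _ (map_w D' h g) V)).trans (midB_fstB _ _ _ V))
    refine (pushψ_app α S (h ≫ g) V s (m.left ≫ rh ≫ rg) h₄ hr).trans ?_
    refine Eq.trans ?_ (congrArg ((S.F k).obj.map m.op) (congrArg ((pushψ α S h).hom.app (op Vj))
      (pushψ_app α S g V s rg (sqr_w _ _ _ _ _ V) (sqr_fstB _ _ _ _ _ V)))).symm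
    refine Eq.trans ?_ (congrArg ((S.F k).obj.map m.op)
      (pushψ_app α S h Vj _ rh (sqr_w _ _ _ _ _ Vj) (sqr_fstB _ _ _ _ _ Vj))).symm
    rw [S.res_comp h g rh rg (rh ≫ rg) _ _ h₃ rfl s]
    exact (S.map_res (h ≫ g) (rh ≫ rg) h₃ m _ h₄ rfl s).symm

/-- Direct images of morphisms of systems. -/
def pushNatHom {S S' : Sys D} (φ : Sys.Hom S S') : Sys.Hom (pushNat α S) (pushNat α S') where
  app i := (EtCoh.push (α.app i)).map (φ.app i)
  comm {i j} g := by
    show _ ≫ pushψ α S' g = pushψ α S g ≫ _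
    rw [pushψ, pushψ, ← pushSq_pre, φ.comm g, pushSq_post]
    rfl

variable {c : Cone D} {c' : Cone D'} (p : c.pt ⟶ c'.pt) (hp : ∀ i, c.π.app i ≫ α.app i = p ≫ c'.π.app i)

include hp in
/-- The direct image receives the direct image system. -/
def pushNatCocn {S : Sys D} (L : Cocn S c) : Cocn (pushNat α S) c' where
  M := (EtCoh.push p).obj L.M
  a i := pushSq (α.app i) (prj c' i) p (prj c i) (hp i) (L.a i)
  comm {i j} g := by
    refine sheafHom_ext fun V s => ?_
    let Vj := (EtCoh.bc (D'.map g)).obj V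
    let rg := sqr (α.app i) (D'.map g) (α.app j) (D.map g) (α.naturality g) V
    let r' := sqr (α.app j) (prj c' j) p (prj c j) (hp j) Vj
    let ri := sqr (α.app i) (prj c' i) p (prj c i) (hp i) V
    let J := (join (prj c' j) (D'.map g) (prj_w c' g)).app V
    let n := (EtCoh.bc p).map J
    refine (pushSq_app _ _ _ _ _ (L.a i) V s ri (sqr_w _ _ _ _ _ V) (sqr_fstB _ _ _ _ _ V)).trans ?_
    refine Eq.trans ?_ (congrArg (L.M.obj.map n.op) (congrArg ((pushSq _ _ _ _ (hp j) (L.a j)).hom.app (op Vj))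
      (pushψ_app α S g V s rg (sqr_w _ _ _ _ _ V) (sqr_fstB _ _ _ _ _ V)))).symm
    refine Eq.trans ?_ (congrArg (L.M.obj.map n.op) (pushSq_app _ _ _ _ _ (L.a j) Vj _ r' (sqr_w _ _ _ _ _ Vj)
      (sqr_fstB _ _ _ _ _ Vj))).symm
    have hmm : (fstB (prj c j) ((EtCoh.bc (α.app j)).obj Vj) ≫ rg) ≫ ((EtCoh.bc (α.app i)).obj V).hom =
        ((EtCoh.bc (prj c j)).obj ((EtCoh.bc (α.app j)).obj Vj)).hom ≫ prj c i := by
      rw [Category.assoc, sqr_w, ← Category.assoc, fstB_w, Category.assoc, prj_w c g]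
    rw [L.a_res g rg (sqr_w _ _ _ _ _ V) (lift (prj c i) _ hmm) (lift_fstB _ _ _) s]
    refine Eq.trans ?_ (congrArg (L.M.obj.map n.op) (Functor.map_comp_apply L.M.obj _ _ _))
    refine Eq.trans ?_ (Functor.map_comp_apply L.M.obj _ _ _)
    refine congrArg (fun l => L.M.obj.map (Quiver.Hom.op l) ((L.a i).hom.app _ s)) (bc_hom_ext _ ?_)
    refine (lift_fstB _ _ _).trans ?_
    have e : (n ≫ lift (prj c j) r' (sqr_w _ _ _ _ _ Vj) ≫ lift (prj c i) _ hmm).left ≫ fstB (prj c i) _ =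
        n.left ≫ r' ≫ rg := by
      refine (Category.assoc _ _ _).trans (congrArg (n.left ≫ ·) ?_)
      refine (Category.assoc _ _ _).trans ((congrArg (_ ≫ ·) (lift_fstB (prj c i) _ hmm)).trans ?_)
      exact (Category.assoc _ _ _).symm.trans (congrArg (· ≫ rg) (lift_fstB (prj c j) r' (sqr_w _ _ _ _ _ Vj)))
    refine (sqr_eq _ _ _ _ _ ?_ ?_).trans e.symm
    · refine overLeft_w n ?_
      rw [Category.assoc, sqr_w, ← Category.assoc, sqr_w, Category.assoc, prj_w c g]
      rfl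
    · rw [Category.assoc, Category.assoc, sqr_fstB, ← Category.assoc r', sqr_fstB, Category.assoc]
      refine fstB_chain p _ ?_
      exact (Category.assoc _ _ _).symm.trans ((congrArg (· ≫ fstB (D'.map g) V)
        (join_fstB _ _ (prj_w c' g) V)).trans (midB_fstB _ _ _ V))

end Groth.L27.LimBC
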