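import Groth.Agent.L27.LimBC.Theta
import Groth.Agent.L27.LimCoh.Retract

/-! # The system of higher direct images of a system of sheaves -/

universe u

open CategoryTheory CategoryTheory.Limits AlgebraicGeometry Opposite HomologicalComplex

set_option backward.defeqAttrib.useBackward true
set_option backward.isDefEq.respectTransparency false
set_option backward.isDefEq.respectTransparency.types false
set_option linter.style.haveILetI false
set_option linter.unusedSectionVars false

noncomputable section

namespace Groth.L27.LimBC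

open Groth.L27.LimCoh Groth.L10.EtBCComp

attribute [local instance] preservesInjectiveObjects_push

section Unit

variable {T S : Scheme.{u}} (f : T ⟶ S) (u : S ⟶ S) (v : T ⟶ T) (hu : u = 𝟙 S) (hv : v = 𝟙 T)
  (w : v ≫ f = f ≫ u)

theorem pushSq_unit₀ (A : EtCoh.Ab T) :
    pushSq f u f v w (pushUnit₀ v hv A) = pushUnit₀ u hu ((EtCoh.push f).obj A) := by
  refine sheafHom_ext fun V s => ?_
  let m := (EtCoh.bc f).map ((unit₀ u hu).app V)
  have hm : m.left ≫ ((EtCoh.bc f).obj V).hom = ((EtCoh.bc f).obj ((EtCoh.bc u).obj V)).hom ≫ v :=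
    (MorphismProperty.Over.w m).trans ((Category.comp_id _).symm.trans (congrArg (_ ≫ ·) hv.symm))
  refine (pushSq_app f u f v w _ V s m.left hm (fstB_nat f _)).trans ?_
  refine (Functor.map_comp_apply A.obj _ _ _).symm.trans ?_
  exact congrArg (fun l => A.obj.map (Quiver.Hom.op l) s)
    (MorphismProperty.Over.Hom.ext (lift_fstB v m.left hm))

/-- The map to the direct image along the identity, as a natural transformation. -/
def unitNat₀ : 𝟭 (EtCoh.Ab S) ⟶ EtCoh.push u where
  app F := pushUnit₀ u hu F
  naturality _ _ φ := (pushUnit₀_naturality u hu φ).symm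

theorem Θ_unit₀ (q : ℕ) (A : EtCoh.Ab T) :
    Θ f u f v w q (pushUnit₀ v hv A) = pushUnit₀ u hu ((EtCoh.Rpush f q).obj A) := by
  let R := injectiveResolution A
  let K := ((EtCoh.push f).mapHomologicalComplex _).obj R.cocomplex
  let χ : R.cocomplex ⟶ ((EtCoh.push v).mapHomologicalComplex _).obj R.cocomplex :=
    { f := fun n => pushUnit₀ v hv (R.cocomplex.X n)
      comm' := fun a b _ => pushUnit₀_naturality v hv (R.cocomplex.d a b) }
  rw [Θ_eq f u f v w q (pushUnit₀ v hv A) R R χ (pushUnit₀_naturality v hv (R.ι.f 0)).symm]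
  have e : HT (EtCoh.push u) q (sqCx f u f v w χ) = pushUnit₀ u hu (K.homology q) := by
    have h := homologyComparison_iso (Ψ := 𝟭 (EtCoh.Ab S)) (Ψ' := EtCoh.push u) q (unitNat₀ u hu) K
    rw [L10.EtLocalBC.homologyComparison_id] at h
    refine Eq.trans ?_ ((Eq.trans h (congrArg (· ≫ (unitNat₀ u hu).app (K.homology q)) ?_)).trans (Category.id_comp _))
    · exact congrArg (fun z => z ≫ RDer.homologyComparison (EtCoh.push u) K q)
        (congrArg (homologyFunctor _ _ q).map
          (HomologicalComplex.hom_ext _ _ fun n => pushSq_unit₀ f u v hu hv w (R.cocomplex.X n)))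
    · exact CategoryTheory.Functor.map_id _ _
  refine (congrArg (fun z => (R.isoRightDerivedObj (EtCoh.push f) q).hom ≫ z ≫ _) e).trans ?_
  refine (congrArg (_ ≫ ·) (pushUnit₀_naturality u hu _)).trans ?_
  exact Iso.hom_inv_id_assoc _ _

end Unit

variable {I : Type u} [SmallCategory I] {D D' : I ⥤ Scheme.{u}} (α : D ⟶ D') (q : ℕ) (S : Sys D)

/-- The system of higher direct images. -/
def rSys : Sys D' where
  F i := (EtCoh.Rpush (α.app i) q).obj (S.F i)
  ψ {i j} g := Θ (α.app i) (D'.map g) (α.app j) (D.map g) (α.naturality g) q (S.ψ g)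
  ψ_id i := by
    rw [S.ψ_id]
    exact Θ_unit₀ _ _ _ (D'.map_id i) (D.map_id i) _ q _
  ψ_comp {i j k} h g := by
    rw [S.ψ_comp h g]
    exact (Θ_comp (α.app i) (α.app j) (α.app k) (α.naturality g) (α.naturality h) (α.naturality (h ≫ g))
      (map_w D' h g) (map_w D h g) q (S.ψ g) (S.ψ h)).symm

variable {c : Cone D} {c' : Cone D'} (p : c.pt ⟶ c'.pt) (hp : ∀ i, c.π.app i ≫ α.app i = p ≫ c'.π.app i) {S}

/-- The higher direct image receives the system of higher direct images. -/
def rCocn (L : Cocn S c) : Cocn (rSys α q S) c' where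
  M := (EtCoh.Rpush p q).obj L.M
  a i := Θ (α.app i) (prj c' i) p (prj c i) (hp i) q (L.a i)
  comm {i j} g := by
    rw [L.comm g]
    exact (Θ_comp (α.app i) (α.app j) p (α.naturality g) (hp j) (hp i) (prj_w c' g) (prj_w c g) q
      (S.ψ g) (L.a j)).symm

end Groth.L27.LimBC
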