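import Groth.Agent.L27.LimBC.BCSys
import Groth.Agent.L10.EtLocalBC.QLocal
import Mathlib.CategoryTheory.Filtered.Final
import Mathlib.AlgebraicGeometry.AffineTransitionLimit

/-! # Restricting systems and base change maps to open subschemes -/

universe u

open CategoryTheory CategoryTheory.Limits AlgebraicGeometry Opposite HomologicalComplex

set_option backward.defeqAttrib.useBackward true
set_option backward.isDefEq.respectTransparency false
set_option backward.isDefEq.respectTransparency.types false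
set_option linter.style.haveILetI false
set_option linter.unusedSectionVars false

noncomputable section

namespace Groth.L27.LimBC

open Groth.L27.LimCoh Groth.L10.EtBCComp

attribute [local instance] preservesInjectiveObjects_push

section Squares

variable {X S Y T : Scheme.{u}} (g : T ⟶ S) (f : X ⟶ S) (h : Y ⟶ X) (e : Y ⟶ T) (w : e ≫ g = h ≫ f) (q : ℕ)

theorem Θ_pre {A A' : EtCoh.Ab T} {B : EtCoh.Ab Y} (φ : A' ⟶ A) (a : A ⟶ (EtCoh.push e).obj B) :
    Θ g f h e w q (φ ≫ a) = (EtCoh.Rpush g q).map φ ≫ Θ g f h e w q a := by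
  let R := injectiveResolution A
  let R' := injectiveResolution A'
  let χ := Groth.L10.EtBCComp.lift (EtCoh.push e) a
  have hχ : R.ι.f 0 ≫ χ.f 0 = a ≫ (EtCoh.push e).map ((injectiveResolution B).ι.f 0) := ι_lift (EtCoh.push e) a
  let d := InjectiveResolution.desc φ R R'
  have hd : R'.ι.f 0 ≫ d.f 0 = φ ≫ R.ι.f 0 := InjectiveResolution.desc_commutes_zero φ R R'
  rw [Θ_eq₀ g f h e w q a χ hχ, Θ_eq₀ g f h e w q (φ ≫ a) (d ≫ χ) (by
    show _ ≫ d.f 0 ≫ χ.f 0 = _
    rw [reassoc_of% hd, hχ, Category.assoc])]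
  have e₁ : sqCx g f h e w (d ≫ χ) = ((EtCoh.push g).mapHomologicalComplex _).map d ≫ sqCx g f h e w χ :=
    HomologicalComplex.hom_ext _ _ fun n => pushSq_pre g f h e w (d.f n) (χ.f n)
  have e₂ := InjectiveResolution.isoRightDerivedObj_hom_naturality φ R' R d hd (EtCoh.push g) q
  rw [e₁, HT_pre]
  simp only [← Category.assoc]
  refine congrArg (· ≫ _) (congrArg (· ≫ _) ?_)
  exact e₂.symm

variable [PreservesFiniteLimits (EtCoh.pull e)]

theorem bcQ_naturality {A A' : EtCoh.Ab T} (φ : A ⟶ A') :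
    EtBC.bcQ g f h e w q A ≫ (EtCoh.Rpush h q).map ((EtCoh.pull e).map φ) =
      (EtCoh.pull f).map ((EtCoh.Rpush g q).map φ) ≫ EtBC.bcQ g f h e w q A' := by
  refine ((EtCoh.pullPushAdj f).homEquiv _ _).injective ?_
  refine ((EtCoh.pullPushAdj f).homEquiv_naturality_right _ _).trans ?_
  refine Eq.trans ?_ ((EtCoh.pullPushAdj f).homEquiv_naturality_left _ _).symm
  refine (congrArg (· ≫ _) (((EtCoh.pullPushAdj f).homEquiv_unit _ _ _).trans (un_bcQ g f h e w q A))).trans ?_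
  refine Eq.trans ?_ (congrArg ((EtCoh.Rpush g q).map φ ≫ ·)
    (((EtCoh.pullPushAdj f).homEquiv_unit _ _ _).trans (un_bcQ g f h e w q A'))).symm
  rw [← Θ_post, ← Θ_pre]
  exact congrArg (Θ g f h e w q) ((EtCoh.pullPushAdj e).unit.naturality φ).symm

theorem isIso_bcQ_retract {A Z : EtCoh.Ab T} (s : Z ⟶ A) (r : A ⟶ Z) (hsr : s ≫ r = 𝟙 Z)
    (hA : IsIso (EtBC.bcQ g f h e w q A)) : IsIso (EtBC.bcQ g f h e w q Z) := by
  let P := EtCoh.Rpush h q
  let Q := EtCoh.Rpush g q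
  refine ⟨P.map ((EtCoh.pull e).map s) ≫ inv (EtBC.bcQ g f h e w q A) ≫ (EtCoh.pull f).map (Q.map r), ?_, ?_⟩
  · rw [reassoc_of% (bcQ_naturality g f h e w q s), IsIso.hom_inv_id_assoc, ← Functor.map_comp, ← Functor.map_comp,
      hsr, CategoryTheory.Functor.map_id, CategoryTheory.Functor.map_id]
  · simp only [Category.assoc]
    rw [← bcQ_naturality g f h e w q r, IsIso.inv_hom_id_assoc, ← Functor.map_comp, ← Functor.map_comp, hsr,
      CategoryTheory.Functor.map_id, CategoryTheory.Functor.map_id]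

theorem symm_un {P Q : Scheme.{u}} (r : P ⟶ Q) (M : EtCoh.Ab Q) :
    ((EtCoh.pullPushAdj r).homEquiv _ _).symm (un r M) = 𝟙 _ :=
  (Equiv.symm_apply_eq _).2 (Adjunction.homEquiv_id _ _).symm

variable {W Z : Scheme.{u}} (i : W ⟶ X) (j : Z ⟶ W) (k : Z ⟶ Y) [PreservesFiniteLimits (EtCoh.pull k)]
  [PreservesFiniteLimits (EtCoh.pull (k ≫ e))]

theorem bcQ_vcomp (w' : k ≫ h = j ≫ i) (w'' : (k ≫ e) ≫ g = j ≫ (i ≫ f)) (F : EtCoh.Ab T) :
    EtBC.bcQ g (i ≫ f) j (k ≫ e) w'' q F ≫ (EtCoh.Rpush j q).map (gamma k e rfl F) =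
      gamma i f rfl ((EtCoh.Rpush g q).obj F) ≫ (EtCoh.pull i).map (EtBC.bcQ g f h e w q F) ≫
        EtBC.bcQ h i j k w' q ((EtCoh.pull e).obj F) := by
  refine ((EtCoh.pullPushAdj (i ≫ f)).homEquiv _ _).injective ?_
  have h₁ := homEquiv_gamma_comp i f rfl ((EtCoh.Rpush g q).obj F) (Θ g f h e w q (un e F))
    (Θ h i j k w' q (un k ((EtCoh.pull e).obj F)))
  rw [← bcQAdj_eq_Θ g f h e w q F, ← bcQAdj_eq_Θ h i j k w' q ((EtCoh.pull e).obj F)] at h₁
  refine Eq.trans ?_ h₁.symm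
  rw [bcQAdj_eq_Θ g f h e w q F, bcQAdj_eq_Θ h i j k w' q ((EtCoh.pull e).obj F)]
  refine ((EtCoh.pullPushAdj (i ≫ f)).homEquiv_naturality_right _ _).trans ?_
  refine (congrArg (· ≫ _) (((EtCoh.pullPushAdj (i ≫ f)).homEquiv_unit _ _ _).trans
    (un_bcQ g (i ≫ f) j (k ≫ e) w'' q F))).trans ?_
  refine (Θ_post g (i ≫ f) j (k ≫ e) w'' q _ _).symm.trans ?_
  refine Eq.trans ?_ (Θ_comp g h j w w' w'' rfl rfl q (un e F) (un k ((EtCoh.pull e).obj F))).symm
  refine congrArg (Θ g (i ≫ f) j (k ≫ e) w'' q) ?_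
  exact ((EtCoh.pullPushAdj (k ≫ e)).homEquiv_unit _ _ _).symm.trans (Equiv.apply_symm_apply _ _)

theorem isIso_bcQ_upper (w' : k ≫ h = j ≫ i) (w'' : (k ≫ e) ≫ g = j ≫ (i ≫ f)) (F : EtCoh.Ab T)
    (h₀ : IsIso (EtBC.bcQ g f h e w q F)) (h₂ : IsIso (EtBC.bcQ g (i ≫ f) j (k ≫ e) w'' q F)) :
    IsIso (EtBC.bcQ h i j k w' q ((EtCoh.pull e).obj F)) := by
  haveI := h₀
  haveI := h₂
  haveI := isIso_gamma k e rfl F
  haveI := isIso_gamma i f rfl ((EtCoh.Rpush g q).obj F)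
  haveI : IsIso ((gamma i f rfl ((EtCoh.Rpush g q).obj F) ≫ (EtCoh.pull i).map (EtBC.bcQ g f h e w q F)) ≫
      EtBC.bcQ h i j k w' q ((EtCoh.pull e).obj F)) := by
    rw [Category.assoc, ← bcQ_vcomp g f h e w q i j k w' w'' F]
    infer_instance
  exact IsIso.of_isIso_comp_left
    (gamma i f rfl ((EtCoh.Rpush g q).obj F) ≫ (EtCoh.pull i).map (EtBC.bcQ g f h e w q F)) _

end Squares

section Restrict

variable {X S Y T U V T' Y' : Scheme.{u}} {g : T ⟶ S} {f : X ⟶ S} {h : Y ⟶ X} {e : Y ⟶ T}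

theorem isIso_bcQ_restrict (c : IsPullback e h g f) [PreservesFiniteLimits (EtCoh.pull e)] (F : EtCoh.Ab T) (q : ℕ)
    (u : U ⟶ X) [Etale u] (v : V ⟶ S) [Etale v] (a : U ⟶ V) (ha : a ≫ v = u ≫ f)
    (t : T' ⟶ T) (g' : T' ⟶ V) (cT : IsPullback t g' g v) (h' : Y' ⟶ U) (e' : Y' ⟶ T') (cY : IsPullback e' h' g' a)
    [PreservesFiniteLimits (EtCoh.pull e')] (hF : IsIso (EtBC.bcQ g f h e c.w q F)) :
    IsIso (EtBC.bcQ g' a h' e' cY.w q ((EtCoh.pull t).obj F)) := by
  have cb : IsPullback (e' ≫ t) h' g (u ≫ f) := ha ▸ cY.paste_horiz cT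
  obtain ⟨y, hye, hyh⟩ : ∃ y : Y' ⟶ Y, y ≫ e = e' ≫ t ∧ y ≫ h = h' ≫ u :=
    ⟨c.lift (e' ≫ t) (h' ≫ u) (cb.w.trans (Category.assoc _ _ _).symm), c.lift_fst _ _ _, c.lift_snd _ _ _⟩
  have cy : IsPullback y h' h u := IsPullback.of_right (by rw [hye]; exact cb) hyh c
  haveI := EtSite.preservesFiniteLimits_pull t
  haveI := EtSite.preservesFiniteLimits_pull y
  haveI := EtSite.preservesFiniteLimits_pull (e' ≫ t)
  haveI := EtSite.preservesFiniteLimits_pull (y ≫ e)
  have h2 : IsIso (EtBC.bcQ h u h' y cy.w q ((EtCoh.pull e).obj F)) := L10.EtLocalBC.isIso_bcQ_of_etale h u h' y cy q _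
  have w₄ : (y ≫ e) ≫ g = h' ≫ (u ≫ f) := by rw [hye]; exact cb.w
  have h4 : IsIso (EtBC.bcQ g (u ≫ f) h' (y ≫ e) w₄ q F) := isIso_bcQ_vcomp f g h e u h' y c.w cy.w w₄ F q hF h2
  have w₃ : (e' ≫ t) ≫ g = h' ≫ (a ≫ v) := (cY.paste_horiz cT).w
  have h3 : IsIso (EtBC.bcQ g (a ≫ v) h' (e' ≫ t) w₃ q F) :=
    L10.EtLocalBC.isIso_bcQ_congr g h' ha.symm hye w₄ w₃ q F h4
  have h1 : IsIso (EtBC.bcQ g v g' t cT.w q F) := L10.EtLocalBC.isIso_bcQ_of_etale g v g' t cT q F
  exact isIso_bcQ_upper g v g' t cT.w q a h' e' cY.w w₃ F h1 h3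

end Restrict

section Whisk

variable {I J : Type u} [SmallCategory I] [SmallCategory J] {D : I ⥤ Scheme.{u}} (κ : J ⥤ I)

theorem ψ_comp_of_eq (S : Sys D) {i j k : I} (h : k ⟶ j) (g : j ⟶ i) (g' : k ⟶ i) (e : g' = h ≫ g)
    (w : D.map h ≫ D.map g = D.map g') :
    S.ψ g' = S.ψ g ≫ (EtCoh.push (D.map g)).map (S.ψ h) ≫ pushJoin (D.map h) (D.map g) w (S.F k) := by
  subst e
  exact S.ψ_comp h g

theorem ψ_id_of_eq (S : Sys D) {i : I} (g : i ⟶ i) (e : g = 𝟙 i) (w : D.map g = 𝟙 _) :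
    S.ψ g = pushUnit₀ (D.map g) w (S.F i) := by
  subst e
  exact S.ψ_id i

/-- Restriction of a system along a functor of index categories. -/
def whisk (S : Sys D) : Sys (κ ⋙ D) where
  F j := S.F (κ.obj j)
  ψ g := S.ψ (κ.map g)
  ψ_id j := ψ_id_of_eq S (κ.map (𝟙 j)) (κ.map_id j) ((κ ⋙ D).map_id j)
  ψ_comp h g := ψ_comp_of_eq S (κ.map h) (κ.map g) (κ.map (h ≫ g)) (κ.map_comp h g) (map_w (κ ⋙ D) h g)

variable {S : Sys D} {c : Cone D}

/-- Restriction of a receiving sheaf. -/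
def whiskCocn (L : Cocn S c) : Cocn (whisk κ S) (c.whisker κ) where
  M := L.M
  a j := L.a (κ.obj j)
  comm g := L.comm (κ.map g)

theorem isIso_toLim_whiskCocn [κ.Initial] (L : Cocn S c) [IsIso (toLim L)] : IsIso (toLim (whiskCocn κ L)) := by
  haveI : IsIso ((colimit.isColimit (diag c S)).desc L.cocone) := inferInstanceAs (IsIso (toLim L))
  let hL : IsColimit L.cocone := IsColimit.ofPointIso (colimit.isColimit _)
  let ν : diag (c.whisker κ) (whisk κ S) ≅ κ.op ⋙ diag c S :=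
    NatIso.ofComponents (fun j => Iso.refl _) fun g => by
      exact (Category.comp_id _).trans (Category.id_comp _).symm
  let f := IsColimit.coconePointsIsoOfNatIso (colimit.isColimit (diag (c.whisker κ) (whisk κ S)))
    ((Functor.Final.isColimitWhiskerEquiv κ.op L.cocone).symm hL) ν
  have key : toLim (whiskCocn κ L) = f.hom := by
    refine colimit.hom_ext fun j => ?_
    refine (colimit.ι_desc (whiskCocn κ L).cocone j).trans ?_
    refine Eq.trans ?_ (IsColimit.comp_coconePointsIsoOfNatIso_hom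
      (colimit.isColimit (diag (c.whisker κ) (whisk κ S)))
      ((Functor.Final.isColimitWhiskerEquiv κ.op L.cocone).symm hL) ν j).symm
    exact (Category.id_comp _).symm
  rw [key]
  infer_instance

end Whisk

section Opens

variable {I : Type u} [SmallCategory I] {E D : I ⥤ Scheme.{u}} (β : E ⟶ D) {i : I} (W : (E.obj i).Opens)
  (U : (D.obj i).Opens) (hW : W ≤ β.app i ⁻¹ᵁ U)

include hW in
theorem opens_le (j : Over i) : E.map j.hom ⁻¹ᵁ W ≤ β.app j.left ⁻¹ᵁ (D.map j.hom ⁻¹ᵁ U) := by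
  rw [← Scheme.Hom.comp_preimage, ← β.naturality j.hom, Scheme.Hom.comp_preimage]
  exact (E.map j.hom).preimage_mono hW

/-- The morphism of restricted diagrams. -/
def opensNat : opensDiagram E i W ⟶ opensDiagram D i U where
  app j := (β.app j.left).resLE _ _ (opens_le β W U hW j)
  naturality j k m := by
    simp only [opensDiagram, Scheme.Hom.resLE_comp_resLE]
    congr 1
    exact β.naturality m.left

theorem opensNat_ι (j : Over i) :
    (opensNat β W U hW).app j ≫ (D.map j.hom ⁻¹ᵁ U).ι = (E.map j.hom ⁻¹ᵁ W).ι ≫ β.app j.left :=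
  Scheme.Hom.resLE_comp_ι _ _

variable {D : I ⥤ Scheme.{u}} {i : I} (U : (D.obj i).Opens) {c : Cone D} {S : Sys D}

/-- The restriction of a system to open subschemes. -/
abbrev resSysOpens (S : Sys D) : Sys (opensDiagram D i U) :=
  pullNat (opensDiagramι D i U) (whisk (Over.forget i) S)

/-- The inclusion of the restricted limit. -/
abbrev ptι (c : Cone D) : (opensCone D c i U).pt ⟶ (c.whisker (Over.forget i)).pt := (c.π.app i ⁻¹ᵁ U).ι

theorem opensCone_w (j : Over i) :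
    ptι U c ≫ (c.whisker (Over.forget i)).π.app j =
      (opensCone D c i U).π.app j ≫ (opensDiagramι D i U).app j :=
  (Scheme.Hom.resLE_comp_ι _ _).symm

/-- The restriction of a receiving sheaf to open subschemes. -/
abbrev resCocnOpens (L : Cocn S c) : Cocn (resSysOpens U S) (opensCone D c i U) :=
  pullCocn (opensDiagramι D i U) (ptι U c) (opensCone_w U) (whiskCocn (Over.forget i) L)

theorem isLim_resCocnOpens [IsCofiltered I] [∀ (j k : Over i) (f : j ⟶ k), IsAffineHom ((opensDiagram D i U).map f)]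
    [∀ j, CompactSpace ((opensDiagram D i U).obj j)] [∀ j, QuasiSeparatedSpace ((opensDiagram D i U).obj j)]
    (hc : IsLimit c) (L : Cocn S c) [IsIso (toLim L)] : (resCocnOpens U L).IsLim := by
  haveI := isIso_toLim_whiskCocn (Over.forget i) L
  haveI h : IsIso (toLim (pullCocn (opensDiagramι D i U) (ptι U c)
      (opensCone_w (c := c) U) (whiskCocn (Over.forget i) L))) :=
    isIso_toLim_pullCocn (opensDiagramι D i U) (ptι U c)
      (opensCone_w (c := c) U) (whiskCocn (Over.forget i) L)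
  exact isLim_of_isIso_toLim (isLimitOpensCone D c hc i U) (resCocnOpens U L)

end Opens

end Groth.L27.LimBC
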