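import Groth.Agent.L27.LimCoh.Exact
import Groth.Agent.L27.LimCoh.Acyclic
import Groth.Agent.L27.LimCoh.CanonLim
import Mathlib.CategoryTheory.Abelian.Injective.Resolution

/-! # Resolutions of systems by systems of injective sheaves -/

universe u v w

open CategoryTheory CategoryTheory.Limits AlgebraicGeometry Opposite

set_option backward.isDefEq.respectTransparency.types false
set_option backward.isDefEq.respectTransparency false
set_option linter.style.haveILetI false
set_option linter.unusedSectionVars false
set_option linter.unusedVariables false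

noncomputable section

namespace Groth.L27.LimBC

open Groth.L27.LimCoh

section Splice

variable {A : Type w} [Category.{v} A] [Abelian A] (T J : ℕ → A) (ι : ∀ m, T m ⟶ J m) (π : ∀ m, J m ⟶ T (m + 1))
  (z : ∀ m, ι m ≫ π m = 0)

/-- The complex spliced from short sequences. -/
def splice : CochainComplex A ℕ :=
  CochainComplex.of J (fun m => π m ≫ ι (m + 1)) (fun m => by
    rw [Category.assoc, reassoc_of% (z (m + 1)), zero_comp, comp_zero])

theorem splice_d (m : ℕ) : (splice T J ι π z).d m (m + 1) = π m ≫ ι (m + 1) :=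
  CochainComplex.of_d J (fun k => π k ≫ ι (k + 1)) m

/-- The augmentation of the spliced complex. -/
def spliceAug : (CochainComplex.single₀ A).obj (T 0) ⟶ splice T J ι π z :=
  (CochainComplex.fromSingle₀Equiv _ _).symm ⟨ι 0, by rw [splice_d, reassoc_of% (z 0), zero_comp]⟩

theorem spliceAug_f_zero : (spliceAug T J ι π z).f 0 = ι 0 := by
  exact congrArg Subtype.val ((CochainComplex.fromSingle₀Equiv (splice T J ι π z) (T 0)).apply_symm_apply _)

theorem quasiIso_spliceAug (h : ∀ m, (ShortComplex.mk (ι m) (π m) (z m)).ShortExact) :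
    QuasiIso (spliceAug T J ι π z) := by
  have hmono : ∀ m, Mono (ι m) := fun m => (h m).mono_f
  have hepi : ∀ m, Epi (π m) := fun m => (h m).epi_g
  have hex : ∀ (m : ℕ) (w : ι m ≫ π m ≫ ι (m + 1) = 0), (ShortComplex.mk (ι m) (π m ≫ ι (m + 1)) w).Exact := by
    intro m w
    haveI := hmono (m + 1)
    exact (ShortComplex.exact_iff_of_epi_of_isIso_of_mono
      ({ τ₁ := 𝟙 _, τ₂ := 𝟙 _, τ₃ := ι (m + 1) } :
        ShortComplex.mk (ι m) (π m) (z m) ⟶ ShortComplex.mk (ι m) (π m ≫ ι (m + 1)) w)).1 (h m).exact
  refine ⟨fun n => ?_⟩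
  cases n with
  | zero =>
    rw [CochainComplex.quasiIsoAt₀_iff, ShortComplex.quasiIso_iff_of_zeros]
    · refine (ShortComplex.exact_and_mono_f_iff_of_iso ?_).2
        ⟨hex 0 (by rw [reassoc_of% (z 0), zero_comp]), hmono 0⟩
      exact ShortComplex.isoMk (Iso.refl _) (Iso.refl _) (Iso.refl _) (by simp [spliceAug_f_zero])
        (by simp [splice_d])
    all_goals rfl
  | succ n =>
    rw [quasiIsoAt_iff_exactAt]
    · rw [HomologicalComplex.exactAt_iff' _ n (n + 1) (n + 1 + 1) (by simp) (by simp)]
      haveI := hepi n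
      have w : ι (n + 1) ≫ π (n + 1) ≫ ι (n + 1 + 1) = 0 := by rw [reassoc_of% (z (n + 1)), zero_comp]
      refine ShortComplex.exact_of_iso ?_ ((ShortComplex.exact_iff_of_epi_of_isIso_of_mono
        ({ τ₁ := π n, τ₂ := 𝟙 _, τ₃ := 𝟙 _ } :
          ShortComplex.mk (π n ≫ ι (n + 1)) (π (n + 1) ≫ ι (n + 1 + 1))
            (by simp [reassoc_of% (z (n + 1))]) ⟶
          ShortComplex.mk (ι (n + 1)) (π (n + 1) ≫ ι (n + 1 + 1)) w)).2 (hex (n + 1) w))
      exact ShortComplex.isoMk (Iso.refl _) (Iso.refl _) (Iso.refl _) (by simp [splice_d]) (by simp [splice_d])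
    · apply CochainComplex.exactAt_succ_single_obj

end Splice

variable {I : Type u} [SmallCategory I] {D : I ⥤ Scheme.{u}}

/-- Composition of morphisms of systems. -/
def homComp {S S' S'' : Sys D} (φ : Sys.Hom S S') (ψ : Sys.Hom S' S'') : Sys.Hom S S'' where
  app i := φ.app i ≫ ψ.app i
  comm g := by
    rw [Category.assoc, ψ.comm g, ← Category.assoc, φ.comm g, Category.assoc, ← Functor.map_comp]

theorem canonMap_homComp (c : Cone D) {S S' S'' : Sys D} (φ : Sys.Hom S S') (ψ : Sys.Hom S' S'') :
    canonMap c (homComp φ ψ) = canonMap c φ ≫ canonMap c ψ := by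
  refine colimit.hom_ext fun i => ?_
  obtain ⟨i⟩ := i
  refine (ι_canonMap c (homComp φ ψ) i).trans ?_
  rw [← Category.assoc (colimit.ι _ _), ι_canonMap, Category.assoc, ι_canonMap, ← Category.assoc,
    ← Functor.map_comp]
  rfl

variable (S : Sys D)

/-- The iterated cokernels. -/
def syz : ℕ → Sys D
  | 0 => S
  | m + 1 => coker (injHom (syz m))

/-- The injective systems of the resolution. -/
abbrev resSys (m : ℕ) : Sys D := injSys (syz S m)

/-- The differentials of the resolution. -/
def resD (m : ℕ) : Sys.Hom (resSys S m) (resSys S (m + 1)) :=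
  homComp (cokerHom (injHom (syz S m))) (injHom (syz S (m + 1)))

/-- The complex at a stage. -/
def stageCx (i : I) : CochainComplex (EtCoh.Ab (D.obj i)) ℕ :=
  splice (fun m => (syz S m).F i) (fun m => (resSys S m).F i) (fun m => (injHom (syz S m)).app i)
    (fun m => (cokerHom (injHom (syz S m))).app i) (fun m => cokernel.condition _)

theorem stageCx_d (i : I) (m : ℕ) : (stageCx S i).d m (m + 1) = (resD S m).app i := splice_d _ _ _ _ _ m

/-- The resolution at a stage. -/
def stageRes (i : I) : InjectiveResolution (S.F i) where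
  cocomplex := stageCx S i
  injective m := injective_injSys (syz S m) i
  ι := spliceAug (fun m => (syz S m).F i) (fun m => (resSys S m).F i) (fun m => (injHom (syz S m)).app i)
    (fun m => (cokerHom (injHom (syz S m))).app i) (fun m => cokernel.condition _)
  quasiIso := quasiIso_spliceAug _ _ _ _ _ fun m =>
    haveI := mono_injHom (syz S m) i
    seqAt_shortExact (injHom (syz S m)) i

theorem stageRes_ι_zero (i : I) : (stageRes S i).ι.f 0 = (injHom S).app i :=
  spliceAug_f_zero (fun m => (syz S m).F i) (fun m => (resSys S m).F i) (fun m => (injHom (syz S m)).app i)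
    (fun m => (cokerHom (injHom (syz S m))).app i) (fun m => cokernel.condition _)

variable (c : Cone D)

/-- The complex on the limit. -/
def limCx : CochainComplex (EtCoh.Ab c.pt) ℕ :=
  splice (fun m => colimit (diag c (syz S m))) (fun m => colimit (diag c (resSys S m)))
    (fun m => canonMap c (injHom (syz S m))) (fun m => canonMap c (cokerHom (injHom (syz S m))))
    (fun m => canonMap_comp c _)

theorem limCx_d (m : ℕ) : (limCx S c).d m (m + 1) = canonMap c (resD S m) :=
  (splice_d _ _ _ _ _ m).trans (canonMap_homComp c _ _).symm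

/-- The augmentation on the limit. -/
def limAug : (CochainComplex.single₀ _).obj (colimit (diag c S)) ⟶ limCx S c :=
  spliceAug (fun m => colimit (diag c (syz S m))) (fun m => colimit (diag c (resSys S m)))
    (fun m => canonMap c (injHom (syz S m))) (fun m => canonMap c (cokerHom (injHom (syz S m))))
    (fun m => canonMap_comp c _)

theorem limAug_f_zero : (limAug S c).f 0 = canonMap c (injHom S) :=
  spliceAug_f_zero (fun m => colimit (diag c (syz S m))) (fun m => colimit (diag c (resSys S m)))
    (fun m => canonMap c (injHom (syz S m))) (fun m => canonMap c (cokerHom (injHom (syz S m))))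
    (fun m => canonMap_comp c _)

theorem quasiIso_limAug [IsCofiltered I] : QuasiIso (limAug S c) :=
  quasiIso_spliceAug _ _ _ _ _ fun m => limSeq_shortExact c _ (mono_injHom (syz S m))

theorem acyc_limCx [IsCofiltered I] [∀ (j k : I) (f : j ⟶ k), IsAffineHom (D.map f)]
    [∀ i, CompactSpace (D.obj i)] [∀ i, QuasiSeparatedSpace (D.obj i)] (hc : IsLimit c) (m : ℕ) :
    Colim.Acyc (Colim.Qcqs (X := c.pt)) ((limCx S c).X m) :=
  acyc_of_isLim (Lc := canon c (resSys S m)) hc (isLim_canon hc) (injective_injSys (syz S m))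

/-- The transition between the complexes at stages. -/
def stageψ {i j : I} (g : j ⟶ i) :
    stageCx S i ⟶ ((EtCoh.push (D.map g)).mapHomologicalComplex _).obj (stageCx S j) where
  f m := (resSys S m).ψ g
  comm' a b hab := by
    obtain rfl : a + 1 = b := hab
    show (resSys S a).ψ g ≫ (EtCoh.push (D.map g)).map ((stageCx S j).d a (a + 1)) =
      (stageCx S i).d a (a + 1) ≫ (resSys S (a + 1)).ψ g
    rw [stageCx_d, stageCx_d]
    exact ((resD S a).comm g).symm

/-- The maps from the stages to the limit complex. -/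
def stageLeg (i : I) : stageCx S i ⟶ ((EtCoh.push (prj c i)).mapHomologicalComplex _).obj (limCx S c) where
  f m := (canon c (resSys S m)).a i
  comm' a b hab := by
    obtain rfl : a + 1 = b := hab
    show (canon c (resSys S a)).a i ≫ (EtCoh.push (prj c i)).map ((limCx S c).d a (a + 1)) =
      (stageCx S i).d a (a + 1) ≫ (canon c (resSys S (a + 1))).a i
    rw [stageCx_d, limCx_d]
    refine ((EtCoh.pullPushAdj (prj c i)).homEquiv_naturality_right _ _).symm.trans ?_
    exact (congrArg _ (ι_canonMap c (resD S a) i)).trans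
      ((EtCoh.pullPushAdj (prj c i)).homEquiv_naturality_left _ _)

theorem aug_stageψ {i j : I} (g : j ⟶ i) :
    (stageRes S i).ι.f 0 ≫ (stageψ S g).f 0 = S.ψ g ≫ (EtCoh.push (D.map g)).map ((stageRes S j).ι.f 0) := by
  rw [stageRes_ι_zero, stageRes_ι_zero]
  exact (injHom S).comm g

theorem aug_stageLeg (i : I) :
    (stageRes S i).ι.f 0 ≫ (stageLeg S c i).f 0 = (canon c S).a i ≫ (EtCoh.push (prj c i)).map ((limAug S c).f 0) := by
  rw [stageRes_ι_zero, limAug_f_zero]
  refine Eq.trans ?_ ((EtCoh.pullPushAdj (prj c i)).homEquiv_naturality_right _ _)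
  refine Eq.trans ?_ (congrArg _ (ι_canonMap c (injHom S) i)).symm
  exact ((EtCoh.pullPushAdj (prj c i)).homEquiv_naturality_left _ _).symm

end Groth.L27.LimBC
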