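import Groth.Agent.L27.LimBC.RSys
import Groth.Agent.L27.LimBC.PushLim
import Groth.Agent.L27.LimBC.SysRes
import Groth.Agent.L27.CompTransfer.Torsion
import Groth.Agent.L27.PBC.AcycTranspose
import Groth.Agent.L29.DCoh.HomologyColim
import Mathlib.Algebra.Homology.HomologicalComplexLimits

/-! # Higher direct images commute with limits of systems -/

universe u

open CategoryTheory CategoryTheory.Limits AlgebraicGeometry Opposite HomologicalComplex

set_option backward.defeqAttrib.useBackward true
set_option backward.isDefEq.respectTransparency false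
set_option backward.isDefEq.respectTransparency.types false
set_option linter.style.haveILetI false
set_option linter.unusedSectionVars false

noncomputable section

namespace Groth.L27.LimBC

open Groth.L27.LimCoh Groth.L10.EtBCComp

attribute [local instance] preservesInjectiveObjects_push

variable {I : Type u} [SmallCategory I] {D D' : I ⥤ Scheme.{u}} (α : D ⟶ D') (q : ℕ)
  {c : Cone D} {c' : Cone D'} (p : c.pt ⟶ c'.pt) (hp : ∀ i, c.π.app i ≫ α.app i = p ≫ c'.π.app i) (S : Sys D)

/-- The system of direct images of the terms of the resolution. -/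
abbrev jSys (m : ℕ) : Sys D' := pushNat α (resSys S m)

variable (c') in
/-- The diagram of complexes computing higher direct images. -/
def kDiag : Iᵒᵖ ⥤ CochainComplex (EtCoh.Ab c'.pt) ℕ where
  obj i := ((EtCoh.pull (prj c' i.unop)).mapHomologicalComplex _).obj
    (((EtCoh.push (α.app i.unop)).mapHomologicalComplex _).obj (stageCx S i.unop))
  map {i j} g :=
    { f := fun m => (diag c' (jSys α S m)).map g
      comm' := fun a b hab => by
        obtain rfl : a + 1 = b := hab
        show (diag c' (jSys α S a)).map g ≫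
            (EtCoh.pull (prj c' j.unop)).map ((EtCoh.push (α.app j.unop)).map ((stageCx S j.unop).d a (a + 1))) =
          (EtCoh.pull (prj c' i.unop)).map ((EtCoh.push (α.app i.unop)).map ((stageCx S i.unop).d a (a + 1))) ≫
            (diag c' (jSys α S (a + 1))).map g
        rw [stageCx_d, stageCx_d]
        exact (diagMap (c := c') (pushNatHom α (resD S a))).naturality g }
  map_id i := HomologicalComplex.hom_ext _ _ fun m => (diag c' (jSys α S m)).map_id i
  map_comp g h := HomologicalComplex.hom_ext _ _ fun m => (diag c' (jSys α S m)).map_comp g h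

/-- The receiving sheaf in one degree. -/
abbrev jCocn (m : ℕ) : Cocn (jSys α S m) c' := pushNatCocn α p hp (canon c (resSys S m))

theorem jCocn_d (a : ℕ) (i : I) :
    (EtCoh.push (α.app i)).map ((stageCx S i).d a (a + 1)) ≫ (jCocn α p hp S (a + 1)).a i =
      (jCocn α p hp S a).a i ≫
        (EtCoh.push (prj c' i)).map ((EtCoh.push p).map ((limCx S c).d a (a + 1))) := by
  refine (pushSq_pre _ _ _ _ (hp i) _ _).symm.trans (Eq.trans ?_ (pushSq_post _ _ _ _ (hp i) _ _))
  exact congrArg _ ((stageLeg S c i).comm a (a + 1)).symm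

/-- The cocone of complexes. -/
def kCocone : Cocone (kDiag α c' S) where
  pt := ((EtCoh.push p).mapHomologicalComplex _).obj (limCx S c)
  ι :=
    { app := fun i =>
        { f := fun m => (jCocn α p hp S m).cocone.ι.app i
          comm' := fun a b hab => by
            obtain rfl : a + 1 = b := hab
            refine ((EtCoh.pullPushAdj (prj c' i.unop)).homEquiv _ _).injective ?_
            refine ((EtCoh.pullPushAdj (prj c' i.unop)).homEquiv_naturality_right _ _).trans ?_
            refine Eq.trans ?_ ((EtCoh.pullPushAdj (prj c' i.unop)).homEquiv_naturality_left _ _).symm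
            refine ((congrArg (· ≫ _) (Equiv.apply_symm_apply _ _)).trans (jCocn_d α p hp S a i.unop).symm).trans ?_
            exact (congrArg (_ ≫ ·) (Equiv.apply_symm_apply _ _)).symm }
      naturality := fun i j g => HomologicalComplex.hom_ext _ _ fun m =>
        ((jCocn α p hp S m).cocone.ι.naturality g) }

theorem transpose_leg (i : I) :
    L10.EtLocalBC.unitN _ (EtCoh.pullPushAdj (prj c' i)) ≫
        ((EtCoh.push (prj c' i)).mapHomologicalComplex _).map ((kCocone α p hp S).ι.app (op i)) =
      sqCx (α.app i) (prj c' i) p (prj c i) (hp i) (stageLeg S c i) :=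
  HomologicalComplex.hom_ext _ _ fun m => (jCocn α p hp S m).cocone_ι_eta i

variable [∀ i, QuasiCompact (α.app i)] [∀ i, QuasiSeparated (α.app i)]
  [IsCofiltered I] [∀ (j k : I) (f : j ⟶ k), IsAffineHom (D.map f)]
  [∀ (j k : I) (f : j ⟶ k), IsAffineHom (D'.map f)]
  [∀ i, CompactSpace (D.obj i)] [∀ i, QuasiSeparatedSpace (D.obj i)]
  [∀ i, CompactSpace (D'.obj i)] [∀ i, QuasiSeparatedSpace (D'.obj i)]

/-- The cocone of complexes is colimiting. -/
def isColimitKCocone (hc : IsLimit c) (hc' : IsLimit c') : IsColimit (kCocone α p hp S) :=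
  isColimitOfEval _ _ fun m => by
    haveI := isIso_toLim hc' (jCocn α p hp S m) (isLim_pushNatCocn α p hp _ (isLim_canon hc))
    haveI : IsIso ((colimit.isColimit (diag c' (jSys α S m))).desc (jCocn α p hp S m).cocone) :=
      inferInstanceAs (IsIso (toLim (jCocn α p hp S m)))
    let h : IsColimit (jCocn α p hp S m).cocone := IsColimit.ofPointIso (colimit.isColimit _)
    exact (IsColimit.precomposeHomEquiv (NatIso.ofComponents (fun i => Iso.refl _) fun g => by
      exact (Category.comp_id _).trans (Category.id_comp _).symm) _).1 (h.ofIsoColimit (Cocone.ext (Iso.refl _) fun i => by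
        exact (Category.comp_id _).trans (Category.id_comp _).symm))

/-- The transposed comparison at a stage. -/
def wHat (i : I) : (EtCoh.Rpush (α.app i) q).obj (S.F i) ⟶
    (EtCoh.push (prj c' i)).obj (((kDiag α c' S).obj (op i)).homology q) :=
  haveI := EtSite.preservesFiniteLimits_pull (prj c' i)
  ((stageRes S i).isoRightDerivedObj (EtCoh.push (α.app i)) q).hom ≫
    HT (EtCoh.push (prj c' i)) q (L10.EtLocalBC.unitN _ (EtCoh.pullPushAdj (prj c' i)))

theorem isIso_wHat (i : I) :
    IsIso (((EtCoh.pullPushAdj (prj c' i)).homEquiv _ _).symm (wHat α q (c' := c') S i)) := by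
  haveI := EtSite.preservesFiniteLimits_pull (prj c' i)
  haveI : PreservesFiniteColimits (EtCoh.pull (prj c' i)) :=
    haveI := (EtCoh.pullPushAdj (prj c' i)).leftAdjoint_preservesColimits
    inferInstance
  haveI := L10.EtLocalBC.isIso_transpose_comparison
    (((EtCoh.push (α.app i)).mapHomologicalComplex _).obj (stageCx S i)) q (EtCoh.pullPushAdj (prj c' i))
  rw [wHat, Adjunction.homEquiv_naturality_left_symm]
  exact @IsIso.comp_isIso _ _ _ _ _ _ _ inferInstance this

/-- Cohomology of the stages computes the diagram of higher direct images. -/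
def νIso : diag c' (rSys α q S) ≅ kDiag α c' S ⋙ homologyFunctor _ _ q :=
  NatIso.ofComponents
    (fun i => @asIso _ _ _ _ (((EtCoh.pullPushAdj (prj c' i.unop)).homEquiv _ _).symm (wHat α q S i.unop))
      (isIso_wHat α q S i.unop))
    fun {i j} g => by
      refine ((EtCoh.pullPushAdj (prj c' i.unop)).homEquiv _ _).injective ?_
      refine (homEquiv_pullMap_comp c' (rSys α q S) g.unop _).trans ?_
      refine Eq.trans ?_ ((EtCoh.pullPushAdj (prj c' i.unop)).homEquiv_naturality_right _ _).symm
      refine Eq.trans ?_ (congrArg (· ≫ _) (Equiv.apply_symm_apply _ _)).symm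
      refine (congrArg (fun z => (rSys α q S).ψ g.unop ≫ (EtCoh.push (D'.map g.unop)).map z ≫ _)
        (Equiv.apply_symm_apply _ _)).trans ?_
      show Θ (α.app i.unop) (D'.map g.unop) (α.app j.unop) (D.map g.unop) (α.naturality g.unop) q (S.ψ g.unop) ≫ _ = _
      rw [Θ_eq _ _ _ _ (α.naturality g.unop) q (S.ψ g.unop) (stageRes S i.unop) (stageRes S j.unop)
        (stageψ S g.unop) (aug_stageψ S g.unop), wHat, wHat]
      simp only [Category.assoc, Functor.map_comp]
      refine congrArg (_ ≫ ·) ?_
      refine (congrArg (_ ≫ ·) ((Category.assoc _ _ _).symm.trans (congrArg (· ≫ _)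
        (((EtCoh.push (D'.map g.unop)).map_comp _ _).symm.trans
          ((congrArg _ (Iso.inv_hom_id _)).trans (CategoryTheory.Functor.map_id _ _)))))).trans ?_
      refine (congrArg (_ ≫ ·) (Category.id_comp _)).trans ?_
      refine (HT_comp (prj c' j.unop) (D'.map g.unop) (prj_w c' g.unop) q _ _).symm.trans ?_
      refine Eq.trans ?_ (HT_post (EtCoh.push (prj c' i.unop)) q _ ((kDiag α c' S).map g))
      exact congrArg _ (HomologicalComplex.hom_ext _ _ fun m =>
        (eta_pullMap c' (jSys α S m) g.unop).symm)

/-- The extension of the comparison to resolutions. -/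
def δ (L : Cocn S c) : limCx S c ⟶ (injectiveResolution L.M).cocomplex :=
  haveI := quasiIso_limAug S c
  RDer.descToInjectives (toLim L) (limCx S c) (limAug S c) (injectiveResolution L.M).cocomplex
    (injectiveResolution L.M).ι

theorem limAug_δ (L : Cocn S c) :
    (limAug S c).f 0 ≫ (δ S L).f 0 = toLim L ≫ (injectiveResolution L.M).ι.f 0 :=
  haveI := quasiIso_limAug S c
  RDer.ι_descToInjectives_f_zero _ _ _ _ _

theorem quasiIso_δ (L : Cocn S c) [IsIso (toLim L)] : QuasiIso (δ S L) := by
  haveI := quasiIso_limAug S c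
  have h : limAug S c ≫ δ S L = (CochainComplex.single₀ _).map (toLim L) ≫ (injectiveResolution L.M).ι :=
    (CochainComplex.fromSingle₀Equiv _ _).injective (Subtype.ext (by
      refine (limAug_δ S L).trans ?_
      simp))
  haveI : QuasiIso (limAug S c ≫ δ S L) := by rw [h]; infer_instance
  exact quasiIso_of_comp_left (limAug S c) (δ S L)

theorem canon_a_toLim (L : Cocn S c) (i : I) :
    (canon c S).a i ≫ (EtCoh.push (prj c i)).map (toLim L) = L.a i := by
  refine ((EtCoh.pullPushAdj (prj c i)).homEquiv_naturality_right _ _).symm.trans ?_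
  exact (congrArg _ (colimit.ι_desc L.cocone (op i))).trans (Equiv.apply_symm_apply _ _)

variable {S} [QuasiCompact p] [QuasiSeparated p]

theorem isIso_toLim_rCocn (hc : IsLimit c) (hc' : IsLimit c') (L : Cocn S c) (hL : L.IsLim) :
    IsIso (toLim (rCocn α q p hp L)) := by
  haveI := isIso_toLim hc L hL
  haveI : AB5OfSize.{u, u} (EtCoh.Ab c'.pt) := AB5OfSize_shrink.{u, u, u + 1, u + 1} _
  haveI : HasExactColimitsOfShape Iᵒᵖ (EtCoh.Ab c'.pt) := inferInstance
  haveI := L29.DC.HomologyColim.preservesColimitsOfShape_homology (A := EtCoh.Ab c'.pt) (J := Iᵒᵖ)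
    (ComplexShape.up ℕ) q
  let ht := isColimitOfPreserves (homologyFunctor (EtCoh.Ab c'.pt) (ComplexShape.up ℕ) q)
    (isColimitKCocone α p hp S hc hc')
  haveI := quasiIso_δ S L
  let J := injectiveResolution L.M
  haveI : IsIso ((homologyFunctor _ (ComplexShape.up ℕ) q).map
      (((EtCoh.push p).mapHomologicalComplex _).map (δ S L))) :=
    L27.PBC.isIso_homology_map (EtCoh.push p) (δ S L)
      (fun n r hr => L27.CompTransfer.isZero_Rpush_of_acyc p _ (acyc_limCx S c hc n) r hr)
      (fun n => haveI := J.injective n; L27.PBC.rAcyclic_of_injective _ _) q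
  let δH := (homologyFunctor _ (ComplexShape.up ℕ) q).map
    (((EtCoh.push p).mapHomologicalComplex _).map (δ S L)) ≫ (J.isoRightDerivedObj (EtCoh.push p) q).inv
  let e := IsColimit.coconePointsIsoOfNatIso (colimit.isColimit (diag c' (rSys α q S))) ht (νIso α q S)
  have key : toLim (rCocn α q p hp L) = e.hom ≫ δH := by
    refine colimit.hom_ext fun i => ?_
    obtain ⟨i⟩ := i
    refine (colimit.ι_desc (rCocn α q p hp L).cocone (op i)).trans ?_
    refine Eq.trans ?_ ((congrArg (· ≫ δH) (IsColimit.comp_coconePointsIsoOfNatIso_hom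
      (colimit.isColimit (diag c' (rSys α q S))) ht (νIso α q S) (op i))).symm.trans (Category.assoc _ _ _))
    refine ((EtCoh.pullPushAdj (prj c' i)).homEquiv _ _).injective ?_
    refine (Equiv.apply_symm_apply _ _).trans ?_
    refine Eq.trans ?_ (congrArg _ (Category.assoc _ _ _)).symm
    refine Eq.trans ?_ ((EtCoh.pullPushAdj (prj c' i)).homEquiv_naturality_right _ _).symm
    have hν : ((EtCoh.pullPushAdj (prj c' i)).homEquiv _ _) ((νIso α q (c' := c') S).hom.app (op i)) =
        wHat α q S i := Equiv.apply_symm_apply _ _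
    refine Eq.trans ?_ (congrArg (· ≫ _) hν).symm
    show Θ (α.app i) (prj c' i) p (prj c i) (hp i) q (L.a i) = wHat α q S i ≫ _
    let χ := stageLeg S c i ≫ ((EtCoh.push (prj c i)).mapHomologicalComplex _).map (δ S L)
    rw [Θ_eq _ _ _ _ (hp i) q (L.a i) (stageRes S i) J χ (by
      show _ ≫ (stageLeg S c i).f 0 ≫ (EtCoh.push (prj c i)).map ((δ S L).f 0) = _
      rw [reassoc_of% (aug_stageLeg S c i), ← Functor.map_comp, limAug_δ, Functor.map_comp,
        reassoc_of% (canon_a_toLim S L i)]
      rfl), wHat, Category.assoc]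
    refine congrArg (_ ≫ ·) ?_
    show _ = HT _ q _ ≫ (EtCoh.push (prj c' i)).map (_ ≫ _ ≫ _)
    simp only [Functor.map_comp]
    have e₁ : HT (EtCoh.push (prj c' i)) q (sqCx (α.app i) (prj c' i) p (prj c i) (hp i) χ) =
        (HT (EtCoh.push (prj c' i)) q (L10.EtLocalBC.unitN _ (EtCoh.pullPushAdj (prj c' i))) ≫
          (EtCoh.push (prj c' i)).map ((homologyFunctor _ _ q).map ((kCocone α p hp S).ι.app (op i)))) ≫
          (EtCoh.push (prj c' i)).map ((homologyFunctor _ _ q).map
            (((EtCoh.push p).mapHomologicalComplex _).map (δ S L))) :=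
      (congrArg _ (sqCx_post _ _ _ _ (hp i) (stageLeg S c i) (δ S L))).trans ((HT_post _ q _ _).trans
        (congrArg (· ≫ _) ((congrArg _ (transpose_leg α p hp S i).symm).trans (HT_post _ q _ _))))
    refine (congrArg (· ≫ _) e₁).trans ?_
    exact (Category.assoc _ _ _).trans (Category.assoc _ _ _)
  rw [key]
  infer_instance

end Groth.L27.LimBC
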