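import Groth.Agent.L27.LimBC.PushNat
import Groth.Agent.L10.EtBCComp.VComp
import Groth.Agent.L10.EtLocalBC.SqIso

/-! # Comparison maps of higher direct images attached to squares -/

universe u v₂ v₃ u₂ u₃

open CategoryTheory CategoryTheory.Limits AlgebraicGeometry Opposite HomologicalComplex

set_option backward.defeqAttrib.useBackward true
set_option backward.isDefEq.respectTransparency false
set_option backward.isDefEq.respectTransparency.types false
set_option linter.style.haveILetI false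
set_option linter.unusedSectionVars false

noncomputable section

namespace Groth.L27.LimBC

open Groth.L27.LimCoh Groth.L10.EtBCComp

/-- Direct images preserve injective objects. -/
theorem preservesInjectiveObjects_push {X Y : Scheme.{u}} (f : X ⟶ Y) : (EtCoh.push f).PreservesInjectiveObjects :=
  haveI := EtSite.preservesFiniteLimits_pull f
  Functor.preservesInjectiveObjects_of_adjunction_of_preservesMonomorphisms (EtCoh.pullPushAdj f)

attribute [local instance] preservesInjectiveObjects_push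

section HT

variable {B : Type u₂} [Category.{v₂} B] [Abelian B] {B' : Type u₃} [Category.{v₃} B'] [Abelian B']
  (Ψ : B' ⥤ B) [Ψ.Additive] [PreservesFiniteLimits Ψ] (q : ℕ)

/-- The map on cohomology of a map into the image of a complex. -/
def HT {K : CochainComplex B ℕ} {L : CochainComplex B' ℕ} (x : K ⟶ (Ψ.mapHomologicalComplex _).obj L) :
    K.homology q ⟶ Ψ.obj (L.homology q) :=
  (homologyFunctor B (ComplexShape.up ℕ) q).map x ≫ RDer.homologyComparison Ψ L q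

theorem HT_pre {K K' : CochainComplex B ℕ} {L : CochainComplex B' ℕ} (z : K' ⟶ K)
    (x : K ⟶ (Ψ.mapHomologicalComplex _).obj L) :
    HT Ψ q (z ≫ x) = (homologyFunctor B (ComplexShape.up ℕ) q).map z ≫ HT Ψ q x := by
  rw [HT, HT, Functor.map_comp, Category.assoc]

theorem HT_post {K : CochainComplex B ℕ} {L L' : CochainComplex B' ℕ}
    (x : K ⟶ (Ψ.mapHomologicalComplex _).obj L) (y : L ⟶ L') :
    HT Ψ q (x ≫ (Ψ.mapHomologicalComplex _).map y) =
      HT Ψ q x ≫ Ψ.map ((homologyFunctor B' (ComplexShape.up ℕ) q).map y) := by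
  rw [HT, HT, Functor.map_comp, Category.assoc, Category.assoc]
  exact congrArg (_ ≫ ·) (homologyComparison_naturality Ψ q y)

end HT

section Squares

variable {T T' S S' : Scheme.{u}} (f : T ⟶ S) (g : S' ⟶ S) (f' : T' ⟶ S') (g' : T' ⟶ T)
  (w : g' ≫ f = f' ≫ g) (q : ℕ)

theorem sqIso_map {A : EtCoh.Ab T} {B : EtCoh.Ab T'} (a : A ⟶ (EtCoh.push g').obj B) :
    (EtCoh.push f).map a ≫ (sqIso f g f' g' w).hom.app B = pushSq f g f' g' w a := by
  rw [sqIso_hom_app, pushSq]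

/-- The comparison map of higher direct images attached to a square. -/
def Θ {A : EtCoh.Ab T} {B : EtCoh.Ab T'} (a : A ⟶ (EtCoh.push g').obj B) :
    (EtCoh.Rpush f q).obj A ⟶ (EtCoh.push g).obj ((EtCoh.Rpush f' q).obj B) :=
  sqMap (EtCoh.push g') (EtCoh.push f) (EtCoh.push f') (EtCoh.push g) (sqIso f g f' g' w) q a

theorem bcQAdj_eq_Θ [PreservesFiniteLimits (EtCoh.pull g')] (F : EtCoh.Ab T) :
    EtBC.bcQAdj f g f' g' w q F = Θ f g f' g' w q ((EtCoh.pullPushAdj g').unit.app F) :=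
  bcQAdj_eq f g f' g' w q F

theorem Θ_post {A : EtCoh.Ab T} {B B' : EtCoh.Ab T'} (a : A ⟶ (EtCoh.push g').obj B) (φ : B ⟶ B') :
    Θ f g f' g' w q (a ≫ (EtCoh.push g').map φ) =
      Θ f g f' g' w q a ≫ (EtCoh.push g).map ((EtCoh.Rpush f' q).map φ) :=
  sqMap_comp _ _ _ _ _ q a φ

/-- The map of complexes attached to a square. -/
def sqCx {K : CochainComplex (EtCoh.Ab T) ℕ} {L : CochainComplex (EtCoh.Ab T') ℕ}
    (x : K ⟶ ((EtCoh.push g').mapHomologicalComplex _).obj L) :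
    ((EtCoh.push f).mapHomologicalComplex _).obj K ⟶
      ((EtCoh.push g).mapHomologicalComplex _).obj (((EtCoh.push f').mapHomologicalComplex _).obj L) where
  f n := pushSq f g f' g' w (x.f n)
  comm' a b _ := by
    show pushSq f g f' g' w (x.f a) ≫ (EtCoh.push g).map ((EtCoh.push f').map (L.d a b)) =
      (EtCoh.push f).map (K.d a b) ≫ pushSq f g f' g' w (x.f b)
    rw [← pushSq_post, ← pushSq_pre]
    exact congrArg (pushSq f g f' g' w) (x.comm a b)

theorem sqCx_post {K : CochainComplex (EtCoh.Ab T) ℕ} {L L' : CochainComplex (EtCoh.Ab T') ℕ}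
    (x : K ⟶ ((EtCoh.push g').mapHomologicalComplex _).obj L) (y : L ⟶ L') :
    sqCx f g f' g' w (x ≫ ((EtCoh.push g').mapHomologicalComplex _).map y) = sqCx f g f' g' w x ≫
      ((EtCoh.push g).mapHomologicalComplex _).map (((EtCoh.push f').mapHomologicalComplex _).map y) :=
  HomologicalComplex.hom_ext _ _ fun n => pushSq_post f g f' g' w (x.f n) (y.f n)

theorem Θ_eq₀ {A : EtCoh.Ab T} {B : EtCoh.Ab T'} (a : A ⟶ (EtCoh.push g').obj B)
    (χ : (injectiveResolution A).cocomplex ⟶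
      ((EtCoh.push g').mapHomologicalComplex _).obj (injectiveResolution B).cocomplex)
    (hχ : (injectiveResolution A).ι.f 0 ≫ χ.f 0 = a ≫ (EtCoh.push g').map ((injectiveResolution B).ι.f 0)) :
    Θ f g f' g' w q a = ((injectiveResolution A).isoRightDerivedObj (EtCoh.push f) q).hom ≫
      HT (EtCoh.push g) q (sqCx f g f' g' w χ) ≫
        (EtCoh.push g).map (((injectiveResolution B).isoRightDerivedObj (EtCoh.push f') q).inv) := by
  rw [Θ, sqMap_eq _ _ _ _ _ q a χ hχ, HT]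
  refine congrArg (((injectiveResolution A).isoRightDerivedObj (EtCoh.push f) q).hom ≫ ·) ?_
  have e : sqCx f g f' g' w χ = ((EtCoh.push f).mapHomologicalComplex _).map χ ≫
      (NatTrans.mapHomologicalComplex (sqIso f g f' g' w).hom _).app (injectiveResolution B).cocomplex :=
    HomologicalComplex.hom_ext _ _ fun n => (sqIso_map f g f' g' w (χ.f n)).symm
  rw [e, Functor.map_comp]
  simp only [Category.assoc]

/-- The comparison map is computed by any lift between any injective resolutions. -/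
theorem Θ_eq {A : EtCoh.Ab T} {B : EtCoh.Ab T'} (a : A ⟶ (EtCoh.push g').obj B)
    (R : InjectiveResolution A) (R' : InjectiveResolution B)
    (χ : R.cocomplex ⟶ ((EtCoh.push g').mapHomologicalComplex _).obj R'.cocomplex)
    (hχ : R.ι.f 0 ≫ χ.f 0 = a ≫ (EtCoh.push g').map (R'.ι.f 0)) :
    Θ f g f' g' w q a = (R.isoRightDerivedObj (EtCoh.push f) q).hom ≫
      HT (EtCoh.push g) q (sqCx f g f' g' w χ) ≫
        (EtCoh.push g).map ((R'.isoRightDerivedObj (EtCoh.push f') q).inv) := by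
  let d₁ := InjectiveResolution.desc (𝟙 A) R (injectiveResolution A)
  let d₂ := InjectiveResolution.desc (𝟙 B) (injectiveResolution B) R'
  have h₁ : (injectiveResolution A).ι.f 0 ≫ d₁.f 0 = 𝟙 A ≫ R.ι.f 0 :=
    InjectiveResolution.desc_commutes_zero (𝟙 A) R (injectiveResolution A)
  have h₂ : R'.ι.f 0 ≫ d₂.f 0 = 𝟙 B ≫ (injectiveResolution B).ι.f 0 :=
    InjectiveResolution.desc_commutes_zero (𝟙 B) (injectiveResolution B) R'
  rw [Θ_eq₀ f g f' g' w q a (d₁ ≫ χ ≫ ((EtCoh.push g').mapHomologicalComplex _).map d₂) (by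
    show _ ≫ d₁.f 0 ≫ χ.f 0 ≫ (EtCoh.push g').map (d₂.f 0) = _
    rw [reassoc_of% h₁]
    erw [reassoc_of% hχ, ← Functor.map_comp, h₂, Category.id_comp])]
  have e₁ := InjectiveResolution.isoRightDerivedObj_hom_naturality (𝟙 A) (injectiveResolution A) R d₁ h₁
    (EtCoh.push f) q
  have e₂ := InjectiveResolution.isoRightDerivedObj_inv_naturality (𝟙 B) R' (injectiveResolution B) d₂ h₂
    (EtCoh.push f') q
  rw [CategoryTheory.Functor.map_id, Category.id_comp] at e₁
  rw [CategoryTheory.Functor.map_id, Category.comp_id] at e₂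
  have e : sqCx f g f' g' w (d₁ ≫ χ ≫ ((EtCoh.push g').mapHomologicalComplex _).map d₂) =
      ((EtCoh.push f).mapHomologicalComplex _).map d₁ ≫ sqCx f g f' g' w χ ≫
        ((EtCoh.push g).mapHomologicalComplex _).map (((EtCoh.push f').mapHomologicalComplex _).map d₂) := by
    refine HomologicalComplex.hom_ext _ _ fun n => ?_
    show pushSq f g f' g' w (d₁.f n ≫ χ.f n ≫ (EtCoh.push g').map (d₂.f n)) = _
    rw [pushSq_pre, pushSq_post]
    rfl
  rw [e, HT_pre, HT_post, e₁, e₂]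
  simp only [Category.assoc, Functor.map_comp, Functor.comp_map]

end Squares

section Compose

variable {T₀ T₁ T₂ S₀ S₁ S₂ : Scheme.{u}} (f₀ : T₀ ⟶ S₀) (f₁ : T₁ ⟶ S₁) (f₂ : T₂ ⟶ S₂)
  {u₁ : S₁ ⟶ S₀} {v₁ : T₁ ⟶ T₀} {u₂ : S₂ ⟶ S₁} {v₂ : T₂ ⟶ T₁} {u₃ : S₂ ⟶ S₀} {v₃ : T₂ ⟶ T₀}
  (w₁ : v₁ ≫ f₀ = f₁ ≫ u₁) (w₂ : v₂ ≫ f₁ = f₂ ≫ u₂) (w₃ : v₃ ≫ f₀ = f₂ ≫ u₃)
  (hu : u₂ ≫ u₁ = u₃) (hv : v₂ ≫ v₁ = v₃) (q : ℕ)

/-- The comparison maps of stacked squares compose. -/
theorem Θ_comp {A : EtCoh.Ab T₀} {B : EtCoh.Ab T₁} {C : EtCoh.Ab T₂} (a : A ⟶ (EtCoh.push v₁).obj B)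
    (a' : B ⟶ (EtCoh.push v₂).obj C) :
    Θ f₀ u₁ f₁ v₁ w₁ q a ≫ (EtCoh.push u₁).map (Θ f₁ u₂ f₂ v₂ w₂ q a') ≫
        pushJoin u₂ u₁ hu ((EtCoh.Rpush f₂ q).obj C) =
      Θ f₀ u₃ f₂ v₃ w₃ q (a ≫ (EtCoh.push v₁).map a' ≫ pushJoin v₂ v₁ hv C) := by
  subst hu hv
  rw [← pushComp_hom_app v₂ v₁ C, ← pushComp_hom_app u₂ u₁ ((EtCoh.Rpush f₂ q).obj C)]
  exact sqMap_sqMap (EtCoh.push v₁) (EtCoh.push f₀) (EtCoh.push f₁) (EtCoh.push u₁) (sqIso f₀ u₁ f₁ v₁ w₁) q
    (EtCoh.push v₂) (EtCoh.push f₂) (EtCoh.push u₂) (sqIso f₁ u₂ f₂ v₂ w₂) (EtCoh.push (v₂ ≫ v₁))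
    (EtCoh.push (u₂ ≫ u₁)) (sqIso f₀ (u₂ ≫ u₁) f₂ (v₂ ≫ v₁) w₃) (EtCoh.pushComp v₁ v₂) (EtCoh.pushComp u₁ u₂)
    (coherence u₁ f₀ f₁ v₁ u₂ f₂ v₂ w₁ w₂ w₃) a a'

end Compose

section HTComp

variable {X Y Z : Scheme.{u}} (f : Z ⟶ Y) (g : Y ⟶ X) {k : Z ⟶ X} (w : f ≫ g = k) (q : ℕ)

/-- Joining iterated direct images, as a natural transformation. -/
def pushJoinNat : EtCoh.push f ⋙ EtCoh.push g ⟶ EtCoh.push k where
  app F := pushJoin f g w F
  naturality _ _ φ := pushJoin_naturality f g w φ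

/-- Joining on complexes. -/
def joinCx (M : CochainComplex (EtCoh.Ab Z) ℕ) :
    ((EtCoh.push g).mapHomologicalComplex _).obj (((EtCoh.push f).mapHomologicalComplex _).obj M) ⟶
      ((EtCoh.push k).mapHomologicalComplex _).obj M where
  f n := pushJoin f g w (M.X n)
  comm' a b _ := (pushJoin_naturality f g w (M.d a b)).symm

theorem HT_comp {K : CochainComplex (EtCoh.Ab X) ℕ} {L : CochainComplex (EtCoh.Ab Y) ℕ}
    {M : CochainComplex (EtCoh.Ab Z) ℕ} (a : K ⟶ ((EtCoh.push g).mapHomologicalComplex _).obj L)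
    (b : L ⟶ ((EtCoh.push f).mapHomologicalComplex _).obj M) :
    HT (EtCoh.push k) q (a ≫ ((EtCoh.push g).mapHomologicalComplex _).map b ≫ joinCx f g w M) =
      HT (EtCoh.push g) q a ≫ (EtCoh.push g).map (HT (EtCoh.push f) q b) ≫ pushJoin f g w (M.homology q) := by
  haveI : PreservesFiniteLimits (EtCoh.push f ⋙ EtCoh.push g) := comp_preservesFiniteLimits _ _
  have h := homologyComparison_iso (Ψ := EtCoh.push f ⋙ EtCoh.push g) (Ψ' := EtCoh.push k) q (pushJoinNat f g w) M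
  rw [homologyComparison_comp] at h
  simp only [HT, Functor.map_comp, Category.assoc]
  refine congrArg (_ ≫ ·) ?_
  refine (congrArg (_ ≫ ·) h).trans ?_
  rw [Category.assoc]
  exact homologyComparison_naturality_assoc (EtCoh.push g) q b _

end HTComp

end Groth.L27.LimBC
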